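import Mathlib

/-!
# Sylow 2-subgroups which are generalised quaternion: the derived subgroup and its centraliser

Setting: `S : Sylow 2 G` with `e : S ≃* QuaternionGroup (2 ^ (n + 2))`.
`gen S n e` is the image of `a 1` (order `2 ^ (n+3)`), and `S' = ⟨gen ^ 2⟩`.
-/

set_option autoImplicit false

namespace Cfsg.Agent.Lib.QuatSylow

open Subgroup
open scoped commutatorElement

section QGroup

variable {m : ℕ}

theorem a_pow (i : ZMod (2 * m)) (k : ℕ) :
    (QuaternionGroup.a i) ^ k = QuaternionGroup.a ((k : ZMod (2 * m)) * i) := by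
  induction k with
  | zero => simp
  | succ k ih => rw [pow_succ, ih, QuaternionGroup.a_mul_a]; congr 1; push_cast; ring

theorem a_mem_zpowers [NeZero m] (i : ZMod (2 * m)) :
    QuaternionGroup.a i ∈ zpowers (QuaternionGroup.a 1 : QuaternionGroup m) := by
  rw [← ZMod.natCast_zmod_val i, ← QuaternionGroup.a_one_pow]
  exact pow_mem (mem_zpowers _) _

theorem a_two_mul_mem [NeZero m] (i : ZMod (2 * m)) :
    QuaternionGroup.a (2 * i) ∈ zpowers (QuaternionGroup.a 2 : QuaternionGroup m) := by
  have h : QuaternionGroup.a (2 * i) = (QuaternionGroup.a 2) ^ i.val := by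
    rw [a_pow, ZMod.natCast_zmod_val, mul_comm]
  rw [h]
  exact pow_mem (mem_zpowers _) _

theorem commutator_eq [NeZero m] :
    commutator (QuaternionGroup m) = zpowers (QuaternionGroup.a 2) := by
  apply le_antisymm
  · rw [_root_.commutator_def, commutator_le]
    intro g _ h _
    have key : ∃ i : ZMod (2 * m), ⁅g, h⁆ = QuaternionGroup.a (2 * i) := by
      rcases g with i | i <;> rcases h with j | j
      · refine ⟨0, ?_⟩
        rw [commutatorElement_def, mul_inv_eq_iff_eq_mul, mul_inv_eq_iff_eq_mul]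
        simp [add_comm]
      · refine ⟨i, ?_⟩
        rw [commutatorElement_def, mul_inv_eq_iff_eq_mul, mul_inv_eq_iff_eq_mul]
        simp
        ring
      · refine ⟨-j, ?_⟩
        rw [commutatorElement_def, mul_inv_eq_iff_eq_mul, mul_inv_eq_iff_eq_mul]
        simp
        ring
      · refine ⟨j - i, ?_⟩
        rw [commutatorElement_def, mul_inv_eq_iff_eq_mul, mul_inv_eq_iff_eq_mul]
        simp
        ring
    obtain ⟨i, hi⟩ := key
    rw [hi]
    exact a_two_mul_mem i
  · rw [zpowers_le, _root_.commutator_def]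
    have : ⁅(QuaternionGroup.a 1 : QuaternionGroup m), (QuaternionGroup.xa 0 : QuaternionGroup m)⁆
        = QuaternionGroup.a 2 := by
      rw [commutatorElement_def, mul_inv_eq_iff_eq_mul, mul_inv_eq_iff_eq_mul]
      simp
      ring
    rw [← this]
    exact commutator_mem_commutator (mem_top _) (mem_top _)

theorem orderOf_a_two [NeZero m] : orderOf (QuaternionGroup.a 2 : QuaternionGroup m) = m := by
  have h : (QuaternionGroup.a 2 : QuaternionGroup m) = (QuaternionGroup.a 1) ^ 2 := by
    simp [QuaternionGroup.a_one_pow]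
  rw [h, orderOf_pow' _ two_ne_zero, QuaternionGroup.orderOf_a_one]
  simp

theorem two_ne_neg_two (hm : 3 ≤ m) : (2 : ZMod (2 * m)) ≠ -2 := by
  intro h
  have h4 : ((4 : ℕ) : ZMod (2 * m)) = 0 := by
    push_cast
    linear_combination h
  rw [ZMod.natCast_eq_zero_iff] at h4
  have := Nat.le_of_dvd (by norm_num) h4
  omega

theorem commute_a_two_iff [NeZero m] (hm : 3 ≤ m) (g : QuaternionGroup m) :
    Commute g (QuaternionGroup.a 2) ↔ g ∈ zpowers (QuaternionGroup.a 1) := by
  constructor
  · intro h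
    rcases g with i | i
    · exact a_mem_zpowers i
    · exfalso
      have h' := h.eq
      simp at h'
      exact two_ne_neg_two hm (by linear_combination h')
  · intro h
    obtain ⟨k, rfl⟩ := mem_zpowers_iff.mp h
    refine Commute.zpow_left ?_ k
    change _ = _
    simp [add_comm]

theorem xa_conj_a (i : ZMod (2 * m)) (j : ZMod (2 * m)) :
    QuaternionGroup.xa i * QuaternionGroup.a j * (QuaternionGroup.xa i)⁻¹
      = QuaternionGroup.a (-j) := by
  rw [mul_inv_eq_iff_eq_mul]
  simp

end QGroup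

section Group

variable {G : Type*} [Group G] (S : Sylow 2 G) (n : ℕ)
  (e : (S : Subgroup G) ≃* QuaternionGroup (2 ^ (n + 2)))

/-- The embedding of the quaternion group onto `S`. -/
noncomputable def emb : QuaternionGroup (2 ^ (n + 2)) →* G :=
  (S : Subgroup G).subtype.comp e.symm.toMonoidHom

/-- Generator of the cyclic maximal subgroup of `S`. -/
noncomputable def gen : G := emb S n e (QuaternionGroup.a 1)

theorem emb_injective : Function.Injective (emb S n e) :=
  Subtype.val_injective.comp e.symm.injective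

theorem emb_mem (q : QuaternionGroup (2 ^ (n + 2))) : emb S n e q ∈ (S : Subgroup G) :=
  (e.symm q).2

theorem range_emb : (emb S n e).range = (S : Subgroup G) := by
  ext g
  constructor
  · rintro ⟨q, rfl⟩
    exact emb_mem S n e q
  · intro hg
    exact ⟨e ⟨g, hg⟩, by simp [emb]⟩

theorem gen_mem : gen S n e ∈ (S : Subgroup G) := emb_mem S n e _

theorem three_le : 3 ≤ 2 ^ (n + 2) := by
  have h : 2 ^ 2 ≤ 2 ^ (n + 2) := Nat.pow_le_pow_right (by norm_num) (by omega)
  omega

theorem orderOf_gen : orderOf (gen S n e) = 2 ^ (n + 3) := by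
  rw [gen, orderOf_injective _ (emb_injective S n e), QuaternionGroup.orderOf_a_one]
  ring

theorem gen_sq : gen S n e ^ 2 = emb S n e (QuaternionGroup.a 2) := by
  rw [gen, ← map_pow, QuaternionGroup.a_one_pow]
  norm_num

theorem derived_eq :
    ⁅(S : Subgroup G), (S : Subgroup G)⁆ = zpowers (gen S n e ^ 2) := by
  conv_lhs => rw [← range_emb S n e, MonoidHom.range_eq_map, ← map_commutator, ← _root_.commutator_def,
    commutator_eq, MonoidHom.map_zpowers]
  rw [gen_sq]

include e in
theorem card_derived : Nat.card ↥(⁅(S : Subgroup G), (S : Subgroup G)⁆) = 2 ^ (n + 2) := by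
  rw [derived_eq S n e, Nat.card_zpowers, gen_sq, orderOf_injective _ (emb_injective S n e),
    orderOf_a_two]

variable {D : Subgroup G} (hD : D = ⁅(S : Subgroup G), (S : Subgroup G)⁆)

include hD

theorem card_D (e : (S : Subgroup G) ≃* QuaternionGroup (2 ^ (n + 2))) :
    Nat.card D = 2 ^ (n + 2) := by rw [hD]; exact card_derived S n e

theorem D_le : D ≤ (S : Subgroup G) := hD ▸ commutator_le_self _

theorem sylow_le_normalizer : (S : Subgroup G) ≤ normalizer (D : Set G) := by
  intro x hx
  rw [mem_normalizer_iff]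
  intro d
  have h1 : ∀ y ∈ (S : Subgroup G), ∀ d ∈ D, y * d * y⁻¹ ∈ D := by
    intro y hy d hd
    have hdS : d ∈ (S : Subgroup G) := D_le S hD hd
    have hc : ⁅y, d⁆ ∈ D := hD ▸ commutator_mem_commutator hy hdS
    have := D.mul_mem hc hd
    rwa [commutatorElement_def, inv_mul_cancel_right] at this
  refine ⟨h1 x hx d, fun h => ?_⟩
  have := h1 x⁻¹ (inv_mem hx) _ h
  rwa [show x⁻¹ * (x * d * x⁻¹) * x⁻¹⁻¹ = d by group] at this

theorem inf_centralizer (e : (S : Subgroup G) ≃* QuaternionGroup (2 ^ (n + 2))) :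
    (S : Subgroup G) ⊓ centralizer (D : Set G) = zpowers (gen S n e) := by
  have hd : gen S n e ^ 2 ∈ D := by rw [hD, derived_eq S n e]; exact mem_zpowers _
  apply le_antisymm
  · rintro x ⟨hxS, hxC⟩
    obtain ⟨q, rfl⟩ : x ∈ (emb S n e).range := by rw [range_emb]; exact hxS
    have h : gen S n e ^ 2 * emb S n e q = emb S n e q * gen S n e ^ 2 :=
      mem_centralizer_iff.mp hxC _ hd
    rw [gen_sq, ← map_mul, ← map_mul] at h
    have hq : Commute q (QuaternionGroup.a 2) := (emb_injective S n e h).symm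
    obtain ⟨k, hk⟩ := mem_zpowers_iff.mp ((commute_a_two_iff (three_le n) q).mp hq)
    exact mem_zpowers_iff.mpr ⟨k, by rw [gen, ← map_zpow, hk]⟩
  · rw [zpowers_le]
    refine ⟨gen_mem S n e, ?_⟩
    show gen S n e ∈ centralizer (D : Set G)
    rw [mem_centralizer_iff]
    intro d hd'
    have hd'' : d ∈ zpowers (gen S n e ^ 2) := by
      rw [← derived_eq S n e, ← hD]
      exact hd'
    obtain ⟨k, rfl⟩ := mem_zpowers_iff.mp hd''
    exact (((Commute.refl (gen S n e)).pow_left 2).zpow_left k).eq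

variable [Finite G]

theorem exists_conj_le (e : (S : Subgroup G) ≃* QuaternionGroup (2 ^ (n + 2))) {P : Subgroup G}
    (hP : IsPGroup 2 P) (hPC : P ≤ centralizer (D : Set G)) :
    ∃ g ∈ normalizer (D : Set G), ∀ x ∈ P, g * x * g⁻¹ ∈ zpowers (gen S n e) := by
  have hSN := sylow_le_normalizer S hD
  have hCN : centralizer (D : Set G) ≤ normalizer (D : Set G) := centralizer_le_normalizer _
  have hPN : IsPGroup 2 (P.subgroupOf (normalizer (D : Set G))) := hP.comap_subtype
  obtain ⟨T, hT⟩ := hPN.exists_le_sylow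
  obtain ⟨g, hg⟩ := MulAction.exists_smul_eq (normalizer (D : Set G)) T (S.subtype hSN)
  refine ⟨g, g.2, fun x hx => ?_⟩
  rw [← inf_centralizer S n hD e]
  refine ⟨?_, ?_⟩
  · have hxT : (⟨x, hCN (hPC hx)⟩ : normalizer (D : Set G)) ∈ (T : Subgroup _) := hT hx
    have h2 : g * (⟨x, hCN (hPC hx)⟩ : normalizer (D : Set G)) * g⁻¹ ∈
        ((g • T : Sylow 2 _) : Subgroup _) := by
      rw [Sylow.coe_subgroup_smul]
      exact Subgroup.smul_mem_pointwise_smul _ (MulAut.conj g) _ hxT
    rw [hg, Sylow.coe_subtype, mem_subgroupOf] at h2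
    exact h2
  · show (g : G) * x * (g : G)⁻¹ ∈ centralizer (D : Set G)
    rw [mem_centralizer_iff]
    intro d hd
    have hd' : (g : G)⁻¹ * d * g ∈ D := by
      have := (mem_normalizer_iff.mp g.2 ((g : G)⁻¹ * d * g)).2
      apply this
      simpa [mul_assoc] using hd
    have h := mem_centralizer_iff.mp (hPC hx) _ hd'
    calc d * ((g : G) * x * (g : G)⁻¹)
        = (g : G) * (((g : G)⁻¹ * d * g) * x) * (g : G)⁻¹ := by group
      _ = (g : G) * (x * ((g : G)⁻¹ * d * g)) * (g : G)⁻¹ := by rw [h]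
      _ = (g : G) * x * (g : G)⁻¹ * d := by group

/-- An element of `C(D)` of order `|D|` generates `D`. -/
theorem zpowers_eq (e : (S : Subgroup G) ≃* QuaternionGroup (2 ^ (n + 2))) {w : G}
    (hw : w ∈ centralizer (D : Set G)) (hord : orderOf w = 2 ^ (n + 2)) : zpowers w = D := by
  have hP : IsPGroup 2 (zpowers w) := IsPGroup.of_card (n := n + 2) (by rw [Nat.card_zpowers, hord])
  obtain ⟨g, hg, hgP⟩ := exists_conj_le S n hD e hP (zpowers_le.mpr hw)
  obtain ⟨k, hk⟩ := mem_zpowers_iff.mp (hgP w (mem_zpowers w))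
  have hpow : (g * w * g⁻¹) ^ (2 ^ (n + 2)) = 1 := by
    rw [← hord, conj_pow, pow_orderOf_eq_one, mul_one, mul_inv_cancel]
  have hdvd : (2 : ℤ) ∣ k := by
    rw [← hk, ← zpow_natCast, ← zpow_mul, ← orderOf_dvd_iff_zpow_eq_one, orderOf_gen] at hpow
    push_cast at hpow
    rw [pow_succ' (2 : ℤ) (n + 2), mul_comm k, mul_comm (2 : ℤ) _] at hpow
    exact Int.dvd_of_mul_dvd_mul_left (pow_ne_zero _ (by norm_num)) hpow
  have hmem : g * w * g⁻¹ ∈ D := by
    obtain ⟨j, rfl⟩ := hdvd
    rw [hD, derived_eq S n e, ← hk, zpow_mul]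
    exact zpow_mem (by rw [zpow_ofNat]; exact mem_zpowers _) _
  have hwD : w ∈ D := (mem_normalizer_iff.mp hg w).2 hmem
  exact eq_of_le_of_card_ge (zpowers_le.mpr hwD) (by rw [Nat.card_zpowers, hord, card_D S n hD e])

end Group

end Cfsg.Agent.Lib.QuatSylow
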