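import Mathlib
import Cfsg.Prelude.Def_Characters
import Cfsg.Agent.Lib.QuatSylow.Basic
import Cfsg.Agent.S0840
import Cfsg.Agent.S0842
import Cfsg.Agent.S0843
import Cfsg.Agent.Lib.Induced.Character
import Cfsg.Agent.Lib.Induced.Generalized
import Cfsg.Agent.Lib.Induced.Integral
import Cfsg.Agent.Lib.Characters.Kernel
import Cfsg.Agent.Lib.Characters.Linear

/-!
# The exceptional character pair for a generalised quaternion Sylow 2-subgroup of order at least 16
-/

set_option autoImplicit false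

namespace Cfsg.Agent.Lib.QuatSylow

open Subgroup
open scoped ComplexConjugate commutatorElement

variable {G : Type*} [Group G] [Finite G] (S : Sylow 2 G) (n : ℕ)
  (e : (S : Subgroup G) ≃* QuaternionGroup (2 ^ (n + 2)))

/-- The involution of `S`. -/
noncomputable def invo : G := gen S n e ^ (2 ^ (n + 2))

omit [Finite G] in
theorem invo_mem : invo S n e ∈ (S : Subgroup G) := pow_mem (gen_mem S n e) _

omit [Finite G] in
theorem orderOf_invo : orderOf (invo S n e) = 2 := by
  rw [invo, orderOf_pow' _ (by positivity), orderOf_gen]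
  rw [Nat.gcd_eq_right (pow_dvd_pow 2 (by omega)), Nat.pow_div (by omega) two_pos,
    show n + 3 - (n + 2) = 1 by omega, pow_one]

omit [Finite G] in
theorem eq_invo {x : G} (hx : x ∈ (S : Subgroup G)) (h2 : orderOf x = 2) : x = invo S n e := by
  obtain ⟨q, rfl⟩ : x ∈ (emb S n e).range := by rw [range_emb]; exact hx
  rw [orderOf_injective _ (emb_injective S n e)] at h2
  rw [invo, gen, ← map_pow, QuaternionGroup.a_one_pow]
  congr 1
  cases q with
  | a i =>
    obtain ⟨k, hk⟩ := mem_zpowers_iff.mp (a_mem_zpowers (m := 2 ^ (n + 2)) i)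
    have h : (2 * k) % (2 * 2 ^ (n + 2) : ℤ) = 0 := by
      have := pow_orderOf_eq_one (QuaternionGroup.a i : QuaternionGroup (2 ^ (n + 2)))
      rw [h2, ← hk, ← zpow_natCast, ← zpow_mul, ← orderOf_dvd_iff_zpow_eq_one,
        QuaternionGroup.orderOf_a_one, mul_comm k] at this
      push_cast at this
      exact Int.emod_eq_zero_of_dvd this
    obtain ⟨j, hj⟩ := Int.dvd_of_emod_eq_zero h
    have hk' : k = 2 ^ (n + 2) * j := by linarith
    rcases Int.even_or_odd j with ⟨l, rfl⟩ | ⟨l, rfl⟩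
    · exfalso
      have h1 : (QuaternionGroup.a i : QuaternionGroup (2 ^ (n + 2))) = 1 := by
        rw [← hk, ← orderOf_dvd_iff_zpow_eq_one, QuaternionGroup.orderOf_a_one]
        exact ⟨l, by rw [hk']; push_cast; ring⟩
      rw [h1, orderOf_one] at h2
      omega
    · rw [← hk, ← QuaternionGroup.a_one_pow, ← zpow_natCast, zpow_eq_zpow_iff_modEq,
        QuaternionGroup.orderOf_a_one, Int.modEq_iff_dvd]
      exact ⟨-l, by rw [hk']; push_cast; ring⟩
  | xa i =>
    rw [QuaternionGroup.orderOf_xa] at h2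
    omega

include e in
theorem exists_conj_eq_invo {x : G} (hx : orderOf x = 2) :
    ∃ g : G, g * x * g⁻¹ = invo S n e := by
  have hP : IsPGroup 2 (zpowers x) := IsPGroup.of_card (n := 1) (by rw [Nat.card_zpowers, hx, pow_one])
  obtain ⟨T, hT⟩ := hP.exists_le_sylow
  obtain ⟨g, hg⟩ := MulAction.exists_smul_eq G T S
  refine ⟨g, eq_invo S n e ?_ ?_⟩
  · rw [← hg, Sylow.coe_subgroup_smul]
    exact Subgroup.smul_mem_pointwise_smul _ (MulAut.conj g) _ (hT (mem_zpowers x))
  · rw [← MulAut.conj_apply, MulEquiv.orderOf_eq, hx]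

include e in
/-- The order of a product of two involutions is not divisible by four. -/
theorem not_four_dvd_mul {x y : G} (hx : orderOf x = 2) (hy : orderOf y = 2) :
    ¬ 4 ∣ orderOf (x * y) := by
  intro h4
  set z := x * y with hz
  have hx1 : x * x = 1 := by rw [← sq, ← hx, pow_orderOf_eq_one]
  have hy1 : y * y = 1 := by rw [← sq, ← hy, pow_orderOf_eq_one]
  have hinv : x * z * x⁻¹ = z⁻¹ := by
    rw [hz, inv_eq_of_mul_eq_one_left hx1, mul_inv_rev, inv_eq_of_mul_eq_one_left hx1,
      inv_eq_of_mul_eq_one_left hy1, ← mul_assoc x x, hx1, one_mul]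
  obtain ⟨c, hc⟩ := h4
  have hc0 : c ≠ 0 := fun h => (orderOf_pos z).ne' (by rw [hc, h, mul_zero])
  set w := z ^ (2 * c) with hw
  have hw2 : orderOf w = 2 := by
    rw [hw, orderOf_pow' _ (by omega), hc, Nat.gcd_eq_right ⟨2, by ring⟩,
      show 4 * c = 2 * (2 * c) by ring, Nat.mul_div_cancel _ (by omega)]
  have hw1 : w * w = 1 := by rw [← sq, ← hw2, pow_orderOf_eq_one]
  have hxw : Commute x w := by
    refine mul_inv_eq_iff_eq_mul.mp ?_
    rw [hw, ← conj_pow, hinv, inv_pow, ← hw]
    exact inv_eq_of_mul_eq_one_left hw1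
  have hne : x ≠ w := by
    intro h
    have hxz : x * z * x⁻¹ = z := by
      have : Commute x z := by rw [h, hw]; exact (Commute.refl z).pow_left _
      rw [this.eq, mul_inv_cancel_right]
    rw [hinv, inv_eq_iff_mul_eq_one, ← sq, ← orderOf_dvd_iff_pow_eq_one, hc] at hxz
    exact absurd (Nat.le_of_dvd two_pos hxz) (by omega)
  have hP : IsPGroup 2 ↥(zpowers x ⊔ zpowers w) := by
    refine IsPGroup.to_sup_of_normal_right' (IsPGroup.of_card (n := 1)
      (by rw [Nat.card_zpowers, hx, pow_one])) (IsPGroup.of_card (n := 1)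
      (by rw [Nat.card_zpowers, hw2, pow_one])) ?_
    refine le_trans ?_ (centralizer_le_normalizer _)
    rw [zpowers_le, mem_centralizer_iff]
    intro a ha
    obtain ⟨k, rfl⟩ := mem_zpowers_iff.mp ha
    exact (hxw.zpow_right k).symm.eq
  obtain ⟨T, hT⟩ := hP.exists_le_sylow
  obtain ⟨g, hg⟩ := MulAction.exists_smul_eq G T S
  have key : ∀ a ∈ zpowers x ⊔ zpowers w, orderOf a = 2 → g * a * g⁻¹ = invo S n e := by
    intro a ha h2
    refine eq_invo S n e ?_ ?_
    · rw [← hg, Sylow.coe_subgroup_smul]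
      exact Subgroup.smul_mem_pointwise_smul _ (MulAut.conj g) _ (hT ha)
    · rw [← MulAut.conj_apply, MulEquiv.orderOf_eq, h2]
  have e1 := key x (mem_sup_left (mem_zpowers x)) hx
  have e2 := key w (mem_sup_right (mem_zpowers w)) hw2
  exact hne (mul_left_cancel (mul_right_cancel (e1.trans e2.symm)))

omit [Finite G] in
/-- An element of `S` outside the cyclic subgroup inverts it. -/
theorem conj_gen_of_not_mem {x : G} (hx : x ∈ (S : Subgroup G))
    (hxR : x ∉ zpowers (gen S n e)) : x * gen S n e * x⁻¹ = (gen S n e)⁻¹ := by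
  obtain ⟨q, rfl⟩ : x ∈ (emb S n e).range := by rw [range_emb]; exact hx
  cases q with
  | a i =>
    exfalso
    obtain ⟨k, hk⟩ := mem_zpowers_iff.mp (a_mem_zpowers (m := 2 ^ (n + 2)) i)
    exact hxR (mem_zpowers_iff.mpr ⟨k, by rw [gen, ← map_zpow, hk]⟩)
  | xa i =>
    rw [gen, ← map_inv, ← map_mul, ← map_inv, ← map_mul, xa_conj_a]
    congr 1

omit [Finite G] in
theorem exists_outside : ∃ x ∈ (S : Subgroup G), x ∉ zpowers (gen S n e) := by
  refine ⟨emb S n e (QuaternionGroup.xa 0), emb_mem S n e _, fun h => ?_⟩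
  obtain ⟨k, hk⟩ := mem_zpowers_iff.mp h
  rw [gen, ← map_zpow] at hk
  have hk' := emb_injective S n e hk
  have hc : Commute (QuaternionGroup.xa 0 : QuaternionGroup (2 ^ (n + 2))) (QuaternionGroup.a 2) := by
    rw [commute_a_two_iff (three_le n), ← hk']
    exact zpow_mem (mem_zpowers _) k
  have h' := hc.eq
  simp at h'
  exact two_ne_neg_two (three_le n) (by linear_combination h')

section Beta

include e in
/-- The exceptional generalised character. -/
theorem exists_beta [Fintype G] :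
    ∃ β : G → ℂ, Cfsg.IsGeneralizedCharacter G β ∧ β 1 = 0 ∧
      Cfsg.classInner β (fun _ => 1) = 1 ∧ Cfsg.classInner β β = 3 ∧
      (∀ g : G, ¬ 4 ∣ orderOf g → β g = 0) ∧ β (gen S n e ^ 2) = 4 := by
  classical
  set R := gen S n e with hR
  set D := ⁅(S : Subgroup G), (S : Subgroup G)⁆ with hD
  obtain ⟨K, hKodd, hKC, hKN, hKS, hKR, hidx⟩ := Cfsg.Agent.S0842.result S n e D rfl
  obtain ⟨-, hfus, hmapX⟩ := Cfsg.Agent.S0843.result S n e D rfl
  set C := centralizer (D : Set G) with hCdef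
  set N := normalizer (D : Set G) with hNdef
  rw [inf_centralizer S n rfl e] at hKR
  have hcardD := card_D S n (D := D) rfl e
  have hRord : orderOf R = 2 ^ (n + 3) := orderOf_gen S n e
  have hRC : R ∈ C := hKR.le (mem_sup_right (mem_zpowers R))
  have hCN : C ≤ N := centralizer_le_normalizer _
  have hRN : zpowers R ≤ normalizer (K : Set G) := by
    rw [zpowers_le]; exact hKN (hCN hRC)
  have dec : ∀ y ∈ C, ∃ k ∈ K, ∃ i : ℤ, y = k * R ^ i := by
    intro y hy
    have h : y ∈ ((K ⊔ zpowers R : Subgroup G) : Set G) := by rw [hKR]; exact hy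
    rw [coe_mul_of_right_le_normalizer_left _ _ hRN] at h
    obtain ⟨k, hk, r, hr, rfl⟩ := h
    obtain ⟨i, rfl⟩ := mem_zpowers_iff.mp hr
    exact ⟨k, hk, i, rfl⟩
  have hKint : ∀ j : ℤ, R ^ j ∈ K → R ^ j = 1 := by
    intro j hj
    rw [← orderOf_eq_one_iff]
    have h1 : orderOf (R ^ j) ∣ 2 ^ (n + 3) :=
      hRord ▸ (orderOf_dvd_of_mem_zpowers (mem_zpowers_iff.mpr ⟨j, rfl⟩))
    have h2 := orderOf_dvd_natCard K hj
    exact Nat.eq_one_of_dvd_coprimes (Nat.Coprime.pow_left _ (Nat.coprime_two_left.mpr hKodd)) h1 h2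
  -- the linear character of `C`
  set K' : Subgroup C := K.subgroupOf C with hK'
  have hK'n : K'.Normal := ⟨fun k hk g => (mem_normalizer_iff.mp (hKN (hCN g.2)) k).1 hk⟩
  set g₀ : C ⧸ K' := QuotientGroup.mk (⟨R, hRC⟩ : C) with hg₀
  have hgen : ∀ x : C ⧸ K', x ∈ zpowers g₀ := by
    intro x
    induction x using QuotientGroup.induction_on with
    | _ y =>
      obtain ⟨k, hk, i, hy⟩ := dec y y.2
      refine mem_zpowers_iff.mpr ⟨i, ?_⟩
      have hy' : (y : C) = ⟨k, hKC hk⟩ * (⟨R, hRC⟩ : C) ^ i := Subtype.ext (by simpa using hy)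
      rw [hy', QuotientGroup.mk_mul, QuotientGroup.mk_zpow,
        (QuotientGroup.eq_one_iff _).mpr (show (⟨k, hKC hk⟩ : C) ∈ K' from hk), one_mul]
  have hpow : ∀ j : ℤ, g₀ ^ j = 1 ↔ (2 : ℤ) ^ (n + 3) ∣ j := by
    intro j
    rw [hg₀, ← QuotientGroup.mk_zpow, QuotientGroup.eq_one_iff, hK', mem_subgroupOf]
    push_cast
    constructor
    · intro h
      have := orderOf_dvd_iff_zpow_eq_one.mpr (hKint j h)
      rw [hRord] at this
      exact_mod_cast this
    · intro h
      rw [show R ^ j = 1 from orderOf_dvd_iff_zpow_eq_one.mp (by rw [hRord]; exact_mod_cast h)]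
      exact K.one_mem
  set Iu : ℂˣ := Units.mk0 Complex.I Complex.I_ne_zero with hIu
  have hI4 : Iu ^ 4 = 1 := Units.ext (by simp [hIu])
  have hIord : orderOf Iu ∣ orderOf g₀ := by
    refine orderOf_dvd_of_pow_eq_one ?_
    have := (hpow (orderOf g₀)).mp (by rw [zpow_natCast, pow_orderOf_eq_one])
    obtain ⟨c, hc⟩ := this
    have h4 : (4 : ℤ) ∣ (orderOf g₀ : ℤ) := ⟨2 ^ (n + 1) * c, by rw [hc]; ring⟩
    obtain ⟨d, hd⟩ := Int.natCast_dvd_natCast.mp (show ((4 : ℕ) : ℤ) ∣ _ from h4)
    rw [hd, pow_mul, hI4, one_pow]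
  let ψ : C →* ℂˣ := (monoidHomOfForallMemZpowers hgen hIord).comp (QuotientGroup.mk' K')
  have hψ : ∀ (k : G) (hk : k ∈ K) (i : ℤ) (y : C), (y : G) = k * R ^ i → ψ y = Iu ^ i := by
    intro k hk i y hy
    have hy' : y = ⟨k, hKC hk⟩ * (⟨R, hRC⟩ : C) ^ i := Subtype.ext (by simpa using hy)
    rw [hy', map_mul, map_zpow]
    have h1 : ψ ⟨k, hKC hk⟩ = 1 := by
      show monoidHomOfForallMemZpowers hgen hIord (QuotientGroup.mk _) = 1
      rw [(QuotientGroup.eq_one_iff _).mpr (show (⟨k, hKC hk⟩ : C) ∈ K' from hk), map_one]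
    have h2 : ψ ⟨R, hRC⟩ = Iu := monoidHomOfForallMemZpowers_apply_gen hgen hIord
    rw [h1, h2, one_mul]
  -- elements not in the kernel of `ψ` have order divisible by `|D|`
  have hX : ∀ y : C, ψ y ≠ 1 → Nat.card D ∣ orderOf (y : G) := by
    intro y hy
    obtain ⟨k, hk, i, he⟩ := dec y y.2
    have h4 : ¬ (4 : ℤ) ∣ i := by
      rintro ⟨c, rfl⟩
      apply hy
      rw [hψ k hk _ y he, zpow_mul, show (4 : ℤ) = ((4 : ℕ) : ℤ) by norm_num, zpow_natCast, hI4,
        one_zpow]
    have h1 : (g₀ ^ i) ^ orderOf (y : G) = 1 := by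
      have hy' : (QuotientGroup.mk y : C ⧸ K') = g₀ ^ i := by
        rw [show y = ⟨k, hKC hk⟩ * (⟨R, hRC⟩ : C) ^ i from Subtype.ext (by simpa using he),
          QuotientGroup.mk_mul, QuotientGroup.mk_zpow,
          (QuotientGroup.eq_one_iff _).mpr (show (⟨k, hKC hk⟩ : C) ∈ K' from hk), one_mul]
      rw [← hy', ← QuotientGroup.mk_pow, orderOf_coe, pow_orderOf_eq_one]
      rfl
    rw [← zpow_natCast, ← zpow_mul, hpow] at h1
    rw [hcardD]
    have h2 : ¬ (2 : ℤ) ^ 2 ∣ i := by norm_num; exact h4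
    by_cases hodd : (2 : ℤ) ∣ i
    · obtain ⟨i', rfl⟩ := hodd
      have hi' : IsCoprime ((2 : ℤ) ^ (n + 2)) i' := by
        refine IsCoprime.pow_left ((Int.prime_two.coprime_iff_not_dvd).mpr ?_)
        intro h; exact h2 (by rw [sq]; exact mul_dvd_mul_left 2 h)
      rw [pow_succ', mul_assoc] at h1
      have := hi'.dvd_of_dvd_mul_left (Int.dvd_of_mul_dvd_mul_left two_ne_zero h1)
      exact_mod_cast this
    · have hi : IsCoprime ((2 : ℤ) ^ (n + 3)) i :=
        IsCoprime.pow_left ((Int.prime_two.coprime_iff_not_dvd).mpr hodd)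
      have := (pow_dvd_pow (2 : ℤ) (show n + 2 ≤ n + 3 by omega)).trans
        (hi.dvd_of_dvd_mul_left h1)
      exact_mod_cast this
  let f : C → ℂ := fun y => 1 - (ψ y : ℂ)
  have hf0 : ∀ y : C, ψ y = 1 → f y = 0 := fun y h => by simp [f, h]
  set β := Cfsg.indFun C f with hβ
  -- conjugation outside `C` inverts `ψ`
  have hconj : ∀ g ∈ N, g ∉ C → ∀ y y' : C, (y' : G) = g * y * g⁻¹ → ψ y' = (ψ y)⁻¹ := by
    intro g hg hgC y y' hy'
    have hdec : ∃ k ∈ K, ∃ s ∈ (S : Subgroup G), g = k * s := by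
      have h : g ∈ ((K ⊔ (S : Subgroup G) : Subgroup G) : Set G) := by rw [hKS]; exact hg
      rw [coe_mul_of_right_le_normalizer_left _ _
        (le_trans (le_trans le_sup_right hKS.le) hKN)] at h
      obtain ⟨k, hk, s, hs, rfl⟩ := h
      exact ⟨k, hk, s, hs, rfl⟩
    obtain ⟨k₁, hk₁, s, hs, rfl⟩ := hdec
    have hsR : s ∉ zpowers R := fun h => hgC (hKR.le (mul_mem (mem_sup_left hk₁) (mem_sup_right h)))
    have hsinv := conj_gen_of_not_mem S n e hs hsR
    obtain ⟨k, hk, i, he⟩ := dec y y.2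
    rw [hψ k hk i y he, ← zpow_neg]
    have hsN : s ∈ N := (le_trans le_sup_right hKS.le) hs
    have hsi : s * R ^ i * s⁻¹ = R ^ (-i) := by rw [← conj_zpow, hsinv, inv_zpow, zpow_neg]
    have hmove : R ^ (-i) * k₁⁻¹ * (R ^ (-i))⁻¹ ∈ K :=
      (mem_normalizer_iff.mp (hRN (zpow_mem (mem_zpowers R) _)) _).1 (inv_mem hk₁)
    have hsk : s * k * s⁻¹ ∈ K := (mem_normalizer_iff.mp (hKN hsN) _).1 hk
    refine hψ (k₁ * (s * k * s⁻¹) * (R ^ (-i) * k₁⁻¹ * (R ^ (-i))⁻¹))
      (K.mul_mem (K.mul_mem hk₁ hsk) hmove) (-i) y' ?_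
    calc (y' : G) = k₁ * (s * k * s⁻¹) * (s * R ^ i * s⁻¹) * k₁⁻¹ := by rw [hy', he]; group
      _ = _ := by rw [hsi]; group
  have hψcl : ∀ g : C, ∀ y : C, ψ (g * y * g⁻¹) = ψ y := fun g y => by
    rw [map_mul, map_mul, map_inv, mul_comm (ψ g), mul_inv_cancel_right]
  -- the values of the induced function on `C`
  have hres : ∀ y : C, β y = 2 - (ψ y : ℂ) - ((ψ y)⁻¹ : ℂˣ) := by
    intro y
    have hstep : ∀ x : G, Cfsg.extendByZero C f (x⁻¹ * y * x) =
        if x ∈ N then (if x ∈ C then f y else 1 - ((ψ y)⁻¹ : ℂˣ)) else 0 := by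
      intro x
      by_cases hx : x ∈ N
      · have hxi : x⁻¹ ∈ N := inv_mem hx
        have hmem : x⁻¹ * y * x ∈ C := by
          show x⁻¹ * (y : G) * x ∈ centralizer (D : Set G)
          rw [mem_centralizer_iff]
          intro d hd
          have hd' : x * d * x⁻¹ ∈ D := (mem_normalizer_iff.mp hx d).1 hd
          have h := mem_centralizer_iff.mp y.2 _ hd'
          calc d * (x⁻¹ * y * x) = x⁻¹ * ((x * d * x⁻¹) * y) * x := by group
            _ = x⁻¹ * ((y : G) * (x * d * x⁻¹)) * x := by rw [h]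
            _ = x⁻¹ * y * x * d := by group
        rw [if_pos hx, Induced.Basic.extendByZero_of_mem C f hmem]
        by_cases hxC : x ∈ C
        · rw [if_pos hxC]
          have : ψ ⟨x⁻¹ * y * x, hmem⟩ = ψ y := by
            rw [← hψcl ⟨x⁻¹, inv_mem hxC⟩ y]
            congr 1
            exact Subtype.ext (by simp)
          simp only [f, this]
        · rw [if_neg hxC]
          have := hconj x⁻¹ hxi (fun h => hxC (by simpa using inv_mem h)) y ⟨_, hmem⟩ (by simp)
          simp only [f, this]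
      · rw [if_neg hx]
        by_cases hmem : x⁻¹ * (y : G) * x ∈ C
        · rw [Induced.Basic.extendByZero_of_mem C f hmem]
          by_contra hne
          have hXz := hX ⟨_, hmem⟩ (fun h => hne (hf0 _ h))
          exact hx (hfus x _ hmem hXz (by
            rw [show x * (x⁻¹ * (y : G) * x) * x⁻¹ = y by group]; exact y.2))
        · exact Induced.Basic.extendByZero_of_not_mem C f hmem
    rw [hβ, Cfsg.indFun, Finset.sum_congr rfl fun x _ => hstep x, ← Finset.sum_filter,
      Finset.sum_ite, Finset.sum_const, Finset.sum_const, Finset.filter_filter,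
      Finset.filter_filter, nsmul_eq_mul, nsmul_eq_mul]
    have hcN : (Finset.univ.filter fun x : G => x ∈ N).card = Nat.card N := by
      rw [Nat.card_eq_fintype_card, Fintype.card_subtype]
    have hcC : (Finset.univ.filter fun x : G => x ∈ N ∧ x ∈ C).card = Nat.card C := by
      rw [Nat.card_eq_fintype_card, Fintype.card_subtype]
      exact congrArg _ (Finset.filter_congr fun x _ => ⟨And.right, fun h => ⟨hCN h, h⟩⟩)
    have hNC : Nat.card N = 2 * Nat.card C := by
      have h := (C.subgroupOf N).card_mul_index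
      rw [hidx, Nat.card_congr (subgroupOfEquivOfLe hCN).toEquiv] at h
      rw [← h, mul_comm]
    have hcO : (Finset.univ.filter fun x : G => x ∈ N ∧ ¬ x ∈ C).card = Nat.card C := by
      have := Finset.card_filter_add_card_filter_not
        (s := Finset.univ.filter fun x : G => x ∈ N) (fun x => x ∈ C)
      rw [Finset.filter_filter, Finset.filter_filter, hcN, hcC, hNC] at this
      omega
    rw [hcC, hcO]
    simp only [f]
    field_simp [Induced.Basic.subgroup_card_ne_zero C]
    ring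
  have hgenf : Cfsg.IsGeneralizedCharacter C f := by
    have h1 := Induced.Generalized.isGen_const (G := C) 1
    have h2 := Induced.Generalized.of_irr (Characters.Linear.linChar ψ)
    simpa [f, Pi.sub_def, Characters.Linear.linChar_apply] using
      Induced.Generalized.isGen_sub h1 h2
  have hgenβ : Cfsg.IsGeneralizedCharacter G β :=
    Induced.Character.isGeneralizedCharacter_indFun C hgenf
  have hcfβ := Induced.Generalized.isClassFunction_of_isGen hgenβ
  -- inner products
  have hψR : ψ ⟨R, hRC⟩ = Iu := monoidHomOfForallMemZpowers_apply_gen hgen hIord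
  have hne1 : ψ ≠ 1 := by
    intro h
    have := congrArg (Units.val) ((DFunLike.congr_fun h ⟨R, hRC⟩).symm.trans hψR)
    simp [hIu] at this
    exact absurd (congrArg Complex.re this) (by simp)
  have hne2 : ψ ≠ ψ⁻¹ := by
    intro h
    have h1 := DFunLike.congr_fun h ⟨R, hRC⟩
    rw [MonoidHom.inv_apply, hψR] at h1
    have := congrArg Units.val h1
    simp [hIu] at this
    have h2 := congrArg Complex.im this
    simp at h2
    linarith
  have hψψ : ∀ a b : C →* ℂˣ, Cfsg.classInner (fun y => (a y : ℂ)) (fun y => (b y : ℂ)) =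
      if a = b then 1 else 0 := by
    intro a b
    have h := Characters.Basic.classInner_irr (Characters.Linear.linChar a)
      (Characters.Linear.linChar b)
    simp only [Characters.Linear.linChar_injective.eq_iff] at h
    rw [← h]
    congr 1 <;> funext y <;> simp [Characters.Linear.linChar_apply]
  refine ⟨β, hgenβ, ?_, ?_, ?_, ?_, ?_⟩
  · have := hres 1
    rw [OneMemClass.coe_one] at this
    rw [this, map_one]; simp; norm_num
  · rw [hβ, Induced.Basic.frobenius_reciprocity C f (fun _ _ => rfl)]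
    have hfe : f = (fun _ : C => (1 : ℂ)) - fun y => (ψ y : ℂ) := rfl
    rw [hfe, Induced.Basic.classInner_sub_left]
    have a1 := hψψ 1 1
    have a2 := hψψ ψ 1
    rw [if_pos rfl] at a1
    rw [if_neg hne1] at a2
    simp only [MonoidHom.one_apply, Units.val_one] at a1 a2
    rw [a1, a2, sub_zero]
  · nth_rewrite 1 [hβ]
    rw [Induced.Basic.frobenius_reciprocity C f hcfβ]
    have hfe : f = (fun y : C => ((1 : C →* ℂˣ) y : ℂ)) - fun y => (ψ y : ℂ) := by
      funext y; simp [f]
    have hβe : (fun y : C => β y) = ((fun y : C => ((1 : C →* ℂˣ) y : ℂ)) - fun y => (ψ y : ℂ)) +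
        ((fun y : C => ((1 : C →* ℂˣ) y : ℂ)) - fun y => (ψ⁻¹ y : ℂ)) := by
      funext y; rw [hres y]; simp; ring
    rw [hfe, hβe]
    simp only [Induced.Basic.classInner_add_right, Induced.Basic.classInner_sub_left,
      Induced.Basic.classInner_sub_right, hψψ]
    rw [if_neg (fun h : (1 : C →* ℂˣ) = ψ⁻¹ => hne1 (MonoidHom.ext fun y => inv_eq_one.mp (DFunLike.congr_fun h y).symm)), if_neg hne2, if_neg hne1, if_neg hne1.symm]
    norm_num
  · intro g hg
    rw [hβ, Cfsg.indFun, Finset.sum_eq_zero (fun x _ => ?_), mul_zero]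
    by_cases hmem : x⁻¹ * g * x ∈ C
    · rw [Induced.Basic.extendByZero_of_mem C f hmem]
      by_contra hne
      have h := hX ⟨_, hmem⟩ (fun h => hne (hf0 _ h))
      rw [hcardD] at h
      refine hg ?_
      rw [← MulEquiv.orderOf_eq (MulAut.conj x⁻¹) g, MulAut.conj_apply, inv_inv]
      exact (pow_dvd_pow 2 (show 2 ≤ n + 2 by omega)).trans h
    · exact Induced.Basic.extendByZero_of_not_mem C f hmem
  · have h := hres ⟨R ^ 2, pow_mem hRC 2⟩
    rw [hψ 1 K.one_mem 2 ⟨R ^ 2, pow_mem hRC 2⟩ (by simp)] at h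
    rw [h]
    simp [hIu]
    norm_num

end Beta

/-- The properties of the pair of exceptional characters. -/
structure IsPair (χ₁ χ₂ : Cfsg.IrrCharacter G) : Prop where
  ne_one₁ : χ₁ ≠ Characters.Basic.oneChar G
  ne_one₂ : χ₂ ≠ Characters.Basic.oneChar G
  degree : (χ₁ : G → ℂ) 1 = (χ₂ : G → ℂ) 1 + 1
  diff : ∀ g : G, ¬ 4 ∣ orderOf g → (χ₁ : G → ℂ) g - (χ₂ : G → ℂ) g = 1
  invo_mem : (χ₁ : G → ℂ) (invo S n e) = (χ₁ : G → ℂ) 1
  gen_sq_notMem : (χ₁ : G → ℂ) (gen S n e ^ 2) ≠ (χ₁ : G → ℂ) 1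

include e in
theorem exists_pair : ∃ χ₁ χ₂ : Cfsg.IrrCharacter G, IsPair S n e χ₁ χ₂ := by
  classical
  have := Fintype.ofFinite G
  have := Fintype.ofFinite (Cfsg.IrrCharacter G)
  obtain ⟨β, hβg, hβ1, hβone, hβn, hβ0, hβR⟩ := exists_beta S n e
  set o := Characters.Basic.oneChar G with ho
  have hoe : (o : G → ℂ) = fun _ => 1 := funext fun g => Characters.Basic.oneChar_apply g
  set θ : G → ℂ := β - (o : G → ℂ) with hθdef
  have hθg := Induced.Generalized.isGen_sub hβg (Induced.Generalized.of_irr o)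
  rw [← hθdef] at hθg
  have hθo : Cfsg.classInner θ (o : G → ℂ) = 0 := by
    rw [hθdef, Induced.Basic.classInner_sub_left, Characters.Basic.classInner_self_irr, hoe,
      hβone, sub_self]
  have hθn : Cfsg.classInner θ θ = 2 := by
    nth_rewrite 2 [hθdef]
    rw [Induced.Basic.classInner_sub_right, hθo, sub_zero, hθdef,
      Induced.Basic.classInner_sub_left, hβn, ← Induced.Basic.classInner_conj_symm β, hoe, hβone,
      map_one]
    norm_num
  obtain ⟨c, hc, hθ, hn⟩ := Induced.Generalized.exists_coeff hθg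
  rw [hθn] at hn
  have hn' : ∑ χ, c χ ^ 2 = 2 := by exact_mod_cast hn.symm
  have hsmall : ∀ χ, c χ = -1 ∨ c χ = 0 ∨ c χ = 1 := by
    intro χ
    have hle : c χ ^ 2 ≤ 2 := by
      rw [← hn']
      exact Finset.single_le_sum (f := fun ψ => c ψ ^ 2) (fun ψ _ => sq_nonneg _)
        (Finset.mem_univ χ)
    have : -1 ≤ c χ ∧ c χ ≤ 1 := ⟨by nlinarith, by nlinarith⟩
    omega
  set T := Finset.univ.filter fun χ => c χ ≠ 0
  have hT : T.card = 2 := by
    have h' : (T.card : ℤ) = ∑ χ, c χ ^ 2 := by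
      rw [Finset.card_filter, Nat.cast_sum]
      refine Finset.sum_congr rfl fun χ _ => ?_
      rcases hsmall χ with hc | hc | hc <;> simp [hc]
    rw [hn'] at h'
    exact_mod_cast h'
  obtain ⟨a, b, hab, hTab⟩ := Finset.card_eq_two.mp hT
  have hθ' : θ = (c a : ℂ) • (a : G → ℂ) + (c b : ℂ) • (b : G → ℂ) := by
    rw [hθ, ← Finset.sum_pair (f := fun χ : Cfsg.IrrCharacter G => (c χ : ℂ) • (χ : G → ℂ)) hab,
      ← hTab]
    refine (Finset.sum_filter_of_ne fun χ _ hne => ?_).symm
    exact fun hc => hne (by rw [hc, Int.cast_zero, zero_smul])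
  have ha : c a ≠ 0 := (Finset.mem_filter.mp (hTab ▸ Finset.mem_insert_self a {b} : a ∈ T)).2
  have hb : c b ≠ 0 := (Finset.mem_filter.mp (hTab ▸ by simp : b ∈ T)).2
  have hne : ∀ χ, c χ ≠ 0 → χ ≠ o := by
    intro χ h he
    apply h
    have := hc o
    rw [hθo, ← he] at this
    exact_mod_cast this.symm
  obtain ⟨χ₁, χ₂, h12, hne₁, hne₂, hθe⟩ : ∃ χ₁ χ₂ : Cfsg.IrrCharacter G,
      χ₁ ≠ χ₂ ∧ χ₁ ≠ o ∧ χ₂ ≠ o ∧ θ = (χ₂ : G → ℂ) - (χ₁ : G → ℂ) := by
    obtain ⟨da, hda, hda'⟩ := Characters.Basic.exists_degree_pos a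
    obtain ⟨db, hdb, hdb'⟩ := Characters.Basic.exists_degree_pos b
    have hdeg : (c a * da + c b * db : ℤ) = -1 := by
      have := congrFun hθ' 1
      simp only [hθdef, Pi.sub_apply, hβ1, hoe, Pi.add_apply, Pi.smul_apply, smul_eq_mul, hda',
        hdb', zero_sub] at this
      exact_mod_cast this.symm
    rcases (hsmall a).imp id (Or.resolve_left · ha) with hca | hca <;>
      rcases (hsmall b).imp id (Or.resolve_left · hb) with hcb | hcb
    · rw [hca, hcb] at hdeg; omega
    · exact ⟨a, b, hab, hne a ha, hne b hb, by rw [hθ', hca, hcb]; simp; abel⟩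
    · exact ⟨b, a, hab.symm, hne b hb, hne a ha, by rw [hθ', hca, hcb]; simp; abel⟩
    · rw [hca, hcb] at hdeg; omega
  have hval : ∀ g : G, β g = 1 + ((χ₂ : G → ℂ) g - (χ₁ : G → ℂ) g) := by
    intro g
    have := congrFun hθe g
    simp only [hθdef, Pi.sub_apply, hoe] at this
    linear_combination this
  have hdeg : (χ₁ : G → ℂ) 1 = (χ₂ : G → ℂ) 1 + 1 := by
    have := hval 1
    rw [hβ1] at this
    linear_combination this
  obtain ⟨d, hd, hd'⟩ := Characters.Basic.exists_degree_pos χ₂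
  refine ⟨χ₁, χ₂, hne₁, hne₂, hdeg, fun g hg => ?_, ?_, ?_⟩
  · have := hval g
    rw [hβ0 g hg] at this
    linear_combination this
  · -- the class algebra relation
    set u := invo S n e with hu
    have hu2 : orderOf u = 2 := orderOf_invo S n e
    set w : Cfsg.IrrCharacter G → ℂ := fun χ => (χ : G → ℂ) u * (χ : G → ℂ) u / (χ : G → ℂ) 1
    have hzero : ∀ g : G, β g * ∑ χ, w χ * conj ((χ : G → ℂ) g) = 0 := by
      intro g
      by_cases h4 : 4 ∣ orderOf g
      · have hcount := Cfsg.Agent.S0840.result u u g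
        have hempty : IsEmpty {p : G × G // IsConj u p.1 ∧ IsConj u p.2 ∧ p.1 * p.2 = g} := by
          constructor
          rintro ⟨⟨x, y⟩, hx, hy, hxy⟩
          obtain ⟨s, rfl⟩ := isConj_iff.mp hx
          obtain ⟨t, rfl⟩ := isConj_iff.mp hy
          refine not_four_dvd_mul S n e ?_ ?_ (hxy ▸ h4)
          · exact (MulEquiv.orderOf_eq (MulAut.conj s) u).trans hu2
          · exact (MulEquiv.orderOf_eq (MulAut.conj t) u).trans hu2
        rw [Nat.card_of_isEmpty, Nat.cast_zero, eq_comm, mul_eq_zero, div_eq_zero_iff,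
          finsum_eq_sum_of_fintype] at hcount
        have hcl : (Nat.card {x : G // IsConj u x} : ℂ) ≠ 0 := by
          have : Nonempty {x : G // IsConj u x} := ⟨⟨u, IsConj.refl u⟩⟩
          exact Nat.cast_ne_zero.mpr Nat.card_pos.ne'
        have h := hcount.resolve_left (by simp [hcl, Induced.Basic.natCard_ne_zero])
        have hsum : ∑ χ, w χ * conj ((χ : G → ℂ) g) = 0 := by
          rw [← h]
          exact Finset.sum_congr rfl fun χ _ => by simp only [w]; ring
        rw [hsum, mul_zero]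
      · rw [hβ0 g h4, zero_mul]
    have hsum : ∑ χ : Cfsg.IrrCharacter G, w χ * Cfsg.classInner β (χ : G → ℂ) = 0 := by
      simp only [Cfsg.classInner, Finset.mul_sum]
      rw [Finset.sum_comm]
      refine Finset.sum_eq_zero fun g _ => ?_
      have := hzero g
      rw [Finset.mul_sum] at this
      calc ∑ χ : Cfsg.IrrCharacter G, w χ * ((Nat.card G : ℂ)⁻¹ * (β g * conj ((χ : G → ℂ) g)))
          = (Nat.card G : ℂ)⁻¹ * ∑ χ : Cfsg.IrrCharacter G, β g * (w χ * conj ((χ : G → ℂ) g)) := by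
            rw [Finset.mul_sum]; exact Finset.sum_congr rfl fun χ _ => by ring
        _ = 0 := by rw [this, mul_zero]
    have hβe : β = (o : G → ℂ) + ((χ₂ : G → ℂ) - (χ₁ : G → ℂ)) := by
      funext g; simp [hval g, hoe]
    simp only [hβe, Induced.Basic.classInner_add_left, Induced.Basic.classInner_sub_left,
      Characters.Basic.classInner_irr, mul_add, mul_sub, mul_ite, mul_one, mul_zero,
      Finset.sum_add_distrib, Finset.sum_sub_distrib, Finset.sum_ite_eq, Finset.mem_univ,
      if_true] at hsum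
    have h1u : (χ₁ : G → ℂ) u = (χ₂ : G → ℂ) u + 1 := by
      have := hval u
      rw [hβ0 u (by rw [hu2]; norm_num)] at this
      linear_combination this
    simp only [w, hoe, h1u, hdeg, hd'] at hsum
    rw [h1u, hdeg, hd']
    have hd0 : (d : ℂ) ≠ 0 := Nat.cast_ne_zero.mpr hd.ne'
    have hd1 : (d : ℂ) + 1 ≠ 0 := by exact_mod_cast Nat.succ_ne_zero d
    field_simp at hsum
    have hsq : ((χ₂ : G → ℂ) u - d) * ((χ₂ : G → ℂ) u - d) = 0 := by linear_combination hsum
    linear_combination (mul_self_eq_zero.mp hsq)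
  · intro h
    have := hval (gen S n e ^ 2)
    rw [hβR, h, hdeg, hd'] at this
    have hb : ‖(χ₂ : G → ℂ) (gen S n e ^ 2)‖ ≤ ‖(χ₂ : G → ℂ) 1‖ :=
      Characters.Basic.norm_apply_le (Characters.Basic.isCharacter_irr χ₂) _
    rw [show (χ₂ : G → ℂ) (gen S n e ^ 2) = ((d + 4 : ℕ) : ℂ) by push_cast; linear_combination -this,
      hd', Complex.norm_natCast, Complex.norm_natCast, Nat.cast_le] at hb
    omega

include e in
/-- A normal subgroup containing all involutions, with non-abelian quotient, meeting `S` in a cyclic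
group. -/
theorem exists_normal : ∃ M : Subgroup G, M.Normal ∧ (∀ x : G, orderOf x = 2 → x ∈ M) ∧
    (∀ x ∈ (S : Subgroup G), x ∈ M → x ∈ zpowers (gen S n e)) ∧ ¬ commutator G ≤ M := by
  classical
  have := Fintype.ofFinite G
  obtain ⟨χ₁, χ₂, h⟩ := exists_pair S n e
  have hc := Characters.Basic.isCharacter_irr χ₁
  set M := Characters.Kernel.charKer hc with hM
  have hMn : M.Normal := Characters.Kernel.charKer_normal hc
  refine ⟨M, hMn, ?_, ?_, ?_⟩
  · intro x hx
    obtain ⟨g, hg⟩ := exists_conj_eq_invo S n e hx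
    have hu : g * x * g⁻¹ ∈ M := by rw [hg, hM, Characters.Kernel.mem_charKer]; exact h.invo_mem
    simpa [mul_assoc] using hMn.conj_mem _ hu g⁻¹
  · intro x hxS hxM
    by_contra hxR
    apply h.gen_sq_notMem
    rw [← Characters.Kernel.mem_charKer hc, ← hM, ← inv_mem_iff]
    have hinv := conj_gen_of_not_mem S n e hxS hxR
    have hmem := M.mul_mem hxM (hMn.conj_mem _ (M.inv_mem hxM) (gen S n e))
    rwa [show x * (gen S n e * x⁻¹ * (gen S n e)⁻¹) = x * gen S n e * x⁻¹ * (gen S n e)⁻¹ by group,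
      hinv, ← mul_inv_rev, ← sq] at hmem
  · intro hle
    obtain ⟨d, hd, hd'⟩ := Characters.Basic.exists_degree_pos χ₂
    obtain ⟨φ, hφ, hφχ, hφi⟩ := Characters.Kernel.exists_descend M hc fun g hg => hg
    have hcomm : ∀ a b : G ⧸ M, a * b = b * a := by
      intro a b
      induction a using QuotientGroup.induction_on with
      | _ x =>
        induction b using QuotientGroup.induction_on with
        | _ y =>
          rw [← commutatorElement_eq_one_iff_mul_comm]
          show ⁅QuotientGroup.mk' M x, QuotientGroup.mk' M y⁆ = 1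
          rw [← map_commutatorElement, QuotientGroup.mk'_apply, QuotientGroup.eq_one_iff]
          exact hle (by rw [_root_.commutator_def]; exact commutator_mem_commutator (mem_top _) (mem_top _))
    have h1 : φ 1 = 1 :=
      Characters.Linear.degree_eq_one_of_comm hcomm ⟨φ, hφi χ₁.2⟩
    have h2 : (χ₁ : G → ℂ) 1 = φ 1 := by rw [← hφχ]; simp
    have hdeg := h.degree
    rw [h2, h1, hd'] at hdeg
    have : (d : ℂ) = 0 := by linear_combination -hdeg
    exact hd.ne' (by exact_mod_cast this)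

include e in
/-- The Sylow 2-subgroups of the subgroup generated by the involutions are cyclic. -/
theorem involutions_sylow_cyclic
    {H : Subgroup G} (hH : H = Subgroup.closure {g : G | orderOf g = 2})
    (Q : Sylow 2 H) : IsCyclic Q := by
  obtain ⟨M, hMn, hinv, hMS, -⟩ := exists_normal S n e
  have hHM : H ≤ M := hH ▸ (closure_le M).mpr fun x hx => hinv x hx
  obtain ⟨T, hT⟩ := (Q.2.map H.subtype).exists_le_sylow
  obtain ⟨g, hg⟩ := MulAction.exists_smul_eq G T S
  have hmem : ∀ q : Q, g * ((q : H) : G) * g⁻¹ ∈ zpowers (gen S n e) := by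
    intro q
    refine hMS _ ?_ (hMn.conj_mem _ (hHM (q : H).2) g)
    rw [← hg, Sylow.coe_subgroup_smul]
    exact Subgroup.smul_mem_pointwise_smul _ (MulAut.conj g) _ (hT ⟨(q : H), q.2, rfl⟩)
  let f : Q →* zpowers (gen S n e) :=
    { toFun := fun q => ⟨g * ((q : H) : G) * g⁻¹, hmem q⟩
      map_one' := Subtype.ext (by simp)
      map_mul' := fun a b => Subtype.ext (by simp [mul_assoc]) }
  refine isCyclic_of_injective f fun a b h => ?_
  exact Subtype.ext (Subtype.ext
    (mul_left_cancel (mul_right_cancel (congrArg Subtype.val h))))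

include e in
/-- Brauer–Suzuki for order at least 16. -/
theorem invo_central (hO : ∀ N : Subgroup G, N.Normal → Odd (Nat.card N) → N = ⊥) :
    invo S n e ∈ center G := by
  set H := Subgroup.closure {g : G | orderOf g = 2} with hH
  have hu : orderOf (invo S n e) = 2 := orderOf_invo S n e
  have hHn : H.Normal := ⟨fun x hx g => by
    have hle : H ≤ H.comap (MulAut.conj g).toMonoidHom := (closure_le _).mpr fun y hy => by
      show MulAut.conj g y ∈ H
      exact subset_closure (show orderOf (MulAut.conj g y) = 2 by rw [MulEquiv.orderOf_eq]; exact hy)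
    exact hle hx⟩
  have huH : invo S n e ∈ H := subset_closure hu
  let Q : Sylow 2 H := Inhabited.default
  have hcyc : IsCyclic Q := involutions_sylow_cyclic S n e hH Q
  have h2H : (Nat.card H).minFac = 2 := by
    rw [Nat.minFac_eq_two_iff, ← hu, ← orderOf_mk (invo S n e) huH]
    exact orderOf_dvd_natCard _
  set φ := MonoidHom.transferSylow Q (hcyc.normalizer_le_centralizer h2H) with hφ
  have hnd := MonoidHom.not_dvd_card_ker_transferSylow Q (hcyc.normalizer_le_centralizer h2H)
  have hmemK : ∀ x : H, x ∈ φ.ker ↔ Odd (orderOf x) := by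
    intro x
    constructor
    · intro hx
      rw [Nat.odd_iff, ← Nat.two_dvd_ne_zero]
      exact fun h2 => hnd (h2.trans (orderOf_dvd_natCard _ hx))
    · intro hx
      rw [MonoidHom.mem_ker, ← orderOf_eq_one_iff]
      obtain ⟨k, hk⟩ := Q.2.exists_card_eq
      have h1 : orderOf (φ x) ∣ 2 ^ k := hk ▸ _root_.orderOf_dvd_natCard _
      exact Nat.eq_one_of_dvd_coprimes
        (Nat.Coprime.pow_left k (Nat.coprime_two_left.mpr hx)) h1 (orderOf_map_dvd φ x)
  set K := φ.ker.map H.subtype with hKdef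
  have hK : K = ⊥ := by
    refine hO K ⟨?_⟩ ?_
    · rintro _ ⟨x, hx, rfl⟩ g
      refine ⟨⟨g * (x : G) * g⁻¹, hHn.conj_mem _ x.2 g⟩, (hmemK _).mpr ?_, rfl⟩
      rw [← orderOf_coe]
      show Odd (orderOf (MulAut.conj g (x : G)))
      rw [MulEquiv.orderOf_eq, orderOf_coe]
      exact (hmemK x).mp hx
    · rw [hKdef, card_subtype, Nat.odd_iff, ← Nat.two_dvd_ne_zero]
      exact hnd
  have hinj : Function.Injective φ := by
    rw [← MonoidHom.ker_eq_bot_iff, ← map_eq_bot_iff_of_injective _ H.subtype_injective]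
    exact hK
  have hH : IsCyclic H := isCyclic_of_injective φ hinj
  rw [mem_center_iff]
  intro g
  have hg2 : orderOf (g * invo S n e * g⁻¹) = 2 :=
    (MulEquiv.orderOf_eq (MulAut.conj g) _).trans hu
  set a : H := ⟨invo S n e, huH⟩
  set b : H := ⟨g * invo S n e * g⁻¹, hHn.conj_mem _ huH g⟩
  classical
  have := Fintype.ofFinite H
  have hsq : ∀ x : H, orderOf (x : G) = 2 → x ^ 2 = 1 := fun x hx => by
    apply Subtype.ext
    rw [Subgroup.coe_pow, ← hx, pow_orderOf_eq_one, OneMemClass.coe_one]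
  have hne : ∀ x : H, orderOf (x : G) = 2 → x ≠ 1 := fun x hx h => by
    rw [h, OneMemClass.coe_one, orderOf_one] at hx; omega
  have hab : b = a := by
    by_contra hne'
    have hle := IsCyclic.card_pow_eq_one_le (α := H) two_pos
    have hsub : ({1, a, b} : Finset H) ⊆ Finset.univ.filter fun x => x ^ 2 = 1 := by
      intro x hx
      simp only [Finset.mem_insert, Finset.mem_singleton] at hx
      simp only [Finset.mem_filter, Finset.mem_univ, true_and]
      rcases hx with rfl | rfl | rfl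
      · exact one_pow 2
      · exact hsq a hu
      · exact hsq b hg2
    have h3 : ({1, a, b} : Finset H).card = 3 := Finset.card_eq_three.mpr
      ⟨1, a, b, (hne a hu).symm, (hne b hg2).symm, Ne.symm hne', rfl⟩
    have := (Finset.card_le_card hsub).trans hle
    omega
  exact mul_inv_eq_iff_eq_mul.mp (congrArg Subtype.val hab)

include e in
theorem card_center (hO : ∀ N : Subgroup G, N.Normal → Odd (Nat.card N) → N = ⊥) :
    Nat.card (center G) = 2 := by
  have hu := invo_central S n e hO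
  have hZ : center G = zpowers (invo S n e) := by
    refine le_antisymm (fun z hz => ?_) (zpowers_le.mpr hu)
    have hzc : ∀ g : G, g * z = z * g := mem_center_iff.mp hz
    have hzp : ∀ w : G, w ∈ zpowers z → w ∈ center G := fun w hw =>
      zpowers_le.mpr hz hw
    obtain ⟨k, m, hm, hkm⟩ := Nat.exists_eq_two_pow_mul_odd (orderOf_pos z).ne'
    have hodd : zpowers (z ^ (2 ^ k)) = ⊥ := by
      refine hO _ ⟨fun w hw g => ?_⟩ ?_
      · rw [mem_center_iff.mp (zpowers_le.mpr (pow_mem hz _) hw) g, mul_inv_cancel_right]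
        exact hw
      · rw [Nat.card_zpowers, orderOf_pow' _ (by positivity), hkm,
          Nat.gcd_eq_right (dvd_mul_right _ _), Nat.mul_div_cancel_left _ (by positivity)]
        exact hm
    rw [zpowers_eq_bot] at hodd
    have hP : IsPGroup 2 (zpowers z) := fun ⟨w, hw⟩ => by
      obtain ⟨i, rfl⟩ := mem_zpowers_iff.mp hw
      refine ⟨k, Subtype.ext ?_⟩
      show (z ^ i) ^ (2 ^ k) = 1
      rw [← zpow_natCast, ← zpow_mul, mul_comm, zpow_mul, zpow_natCast, hodd, one_zpow]
    obtain ⟨T, hT⟩ := hP.exists_le_sylow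
    obtain ⟨g, hg⟩ := MulAction.exists_smul_eq G T S
    have hzS : z ∈ (S : Subgroup G) := by
      have h := Subgroup.smul_mem_pointwise_smul z (MulAut.conj g) (T : Subgroup G)
        (hT (mem_zpowers z))
      rw [← Sylow.pointwise_smul_def, ← Sylow.smul_def, hg] at h
      simpa [MulAut.smul_def, hzc g] using h
    by_cases hzR : z ∈ zpowers (gen S n e)
    · obtain ⟨x, hx, hxR⟩ := exists_outside S n e
      obtain ⟨i, rfl⟩ := mem_zpowers_iff.mp hzR
      have h := hzc x
      rw [← mul_inv_eq_iff_eq_mul, ← conj_zpow, conj_gen_of_not_mem S n e hx hxR, inv_zpow,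
        inv_eq_iff_mul_eq_one, ← sq] at h
      rcases (Nat.dvd_prime Nat.prime_two).1 (orderOf_dvd_of_pow_eq_one h) with h1 | h1
      · rw [orderOf_eq_one_iff] at h1
        rw [h1]; exact one_mem _
      · rw [eq_invo S n e hzS h1]; exact mem_zpowers _
    · exfalso
      have h := conj_gen_of_not_mem S n e hzS hzR
      rw [← hzc (gen S n e), mul_inv_cancel_right, eq_inv_iff_mul_eq_one, ← sq] at h
      have := orderOf_dvd_of_pow_eq_one h
      rw [orderOf_gen] at this
      have h8 : 2 ^ 3 ≤ 2 ^ (n + 3) := Nat.pow_le_pow_right (by norm_num) (by omega)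
      have := Nat.le_of_dvd two_pos this
      omega
  rw [hZ, Nat.card_zpowers, orderOf_invo]

end Cfsg.Agent.Lib.QuatSylow
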