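import Cfsg.Agent.S0201
import Cfsg.Agent.S0942
import Cfsg.Agent.S0947
import Cfsg.Agent.S0950
import Cfsg.Agent.S0952
import Cfsg.Agent.Lib.Blocks.Orthogonality
import Cfsg.Agent.Lib.ZStar.GenChar
import Cfsg.Agent.Lib.Cores.Basic
import Cfsg.Agent.Lib.Chars82.PrincipalBlock

/-!
# Quaternion Sylow 2-subgroups of order 8 and trivial odd core: the principal 2-block

The central involution `z` splits the block in two; the characters trivial on `z` are the four that
are non-zero at an element `x` of order 4, and the others are counted by comparing the two halves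
on the elements of odd order.
-/

set_option autoImplicit false

namespace Cfsg.Agent.Lib.QuatSylow.Eight

open Cfsg.Agent.Lib.Characters.Basic Cfsg.Agent.Lib.Blocks
open Cfsg.Agent.Lib.Induced.Basic (natCard_ne_zero)
open scoped ComplexConjugate

universe u

variable {G : Type u} [Group G] [Finite G]

theorem q8_four {q : QuaternionGroup 2} (h : q * q ≠ 1) :
    orderOf q = 4 := by
  have h1 : ∀ r : QuaternionGroup 2, (r * r) * (r * r) = 1 := by decide +kernel
  refine (orderOf_eq_prime_pow (p := 2) (n := 1) ?_ ?_).trans (by norm_num)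
  · rwa [pow_one, sq]
  · rw [show 2 ^ (1 + 1) = 2 + 2 by norm_num, pow_add, sq]; exact h1 q

theorem q8_exists_inverter : ∀ q : QuaternionGroup 2, q * q ≠ 1 →
    ∃ r, r * q * r⁻¹ = q⁻¹ := by decide +kernel

theorem q8_centralizer : ∀ q r : QuaternionGroup 2, q * q ≠ 1 → r * q = q * r →
    r = 1 ∨ r = q ∨ r = q * q ∨ r = q * q * q := by decide +kernel

set_option linter.unusedSectionVars false
set_option linter.style.haveILetI false

variable (S : Sylow 2 G) (e : (S : Subgroup G) ≃* QuaternionGroup 2)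

include e in
theorem card_eight : Nat.card (S : Subgroup G) = 8 := by
  rw [Nat.card_congr e.toEquiv, Nat.card_eq_fintype_card, QuaternionGroup.card]

/-- A conjugate of a 2-element lies in `S`. -/
theorem exists_conj_mem {g : G} (hg : ∃ k, orderOf g = 2 ^ k) : ∃ c : G, c * g * c⁻¹ ∈ S := by
  obtain ⟨k, hk⟩ := hg
  have hp : IsPGroup 2 (Subgroup.zpowers g) :=
    IsPGroup.of_card (n := k) (by rw [Nat.card_zpowers, hk])
  obtain ⟨Q, hQ⟩ := hp.exists_le_sylow
  obtain ⟨c, hc⟩ := MulAction.exists_smul_eq G Q S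
  refine ⟨c, ?_⟩
  show c * g * c⁻¹ ∈ (S : Subgroup G)
  rw [← hc, Sylow.coe_subgroup_smul]
  simpa using Subgroup.smul_mem_pointwise_smul (a := MulAut.conj c) g (Q : Subgroup G)
    (hQ (Subgroup.mem_zpowers g))

include e in
theorem orderOf_eq_one_or {g : G} (hg : ∃ k, orderOf g = 2 ^ k) :
    orderOf g = 1 ∨ orderOf g = 2 ∨ orderOf g = 4 := by
  obtain ⟨c, hc⟩ := exists_conj_mem S hg
  have h : orderOf g = orderOf (e ⟨c * g * c⁻¹, hc⟩) := by
    rw [MulEquiv.orderOf_eq, Subgroup.orderOf_mk]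
    exact (MulEquiv.orderOf_eq (MulAut.conj c) g).symm
  rw [h]
  set q := e ⟨c * g * c⁻¹, hc⟩
  by_cases hq : q * q = 1
  · rcases (Nat.dvd_prime Nat.prime_two).1
        (orderOf_dvd_of_pow_eq_one (x := q) (n := 2) (by rw [sq]; exact hq))
      with h | h
    · exact Or.inl h
    · exact Or.inr (Or.inl h)
  · exact Or.inr (Or.inr (q8_four hq))

include e in
theorem no_complement (hO : ∀ N : Subgroup G, N.Normal → Odd (Nat.card N) → N = ⊥)
    (hG : (S : Subgroup G) ≠ ⊤) :
    ∀ N : Subgroup G, N.Normal → ¬ Subgroup.IsComplement' N (S : Subgroup G) := by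
  intro N hN hc
  have hodd : Odd (Nat.card N) := by
    rw [← hc.index_eq_card]
    exact Nat.not_even_iff_odd.1 fun h => S.not_dvd_index h.two_dvd
  have hbot := hO N hN hodd
  subst hbot
  exact hG (Subgroup.isComplement'_bot_left.1 hc)

include e in
/-- All elements of order 4 are conjugate. -/
theorem isConj_four (hnc : ∀ N : Subgroup G, N.Normal → ¬ Subgroup.IsComplement' N (S : Subgroup G))
    {x y : G} (hx : x ∈ S) (hx4 : orderOf x = 4) (hy : y ∈ S) (hy4 : orderOf y = 4) :
    IsConj x y := by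
  obtain ⟨n, -, hn⟩ := Cfsg.Agent.S0950.result S e hnc (Subgroup.zpowers x) (Subgroup.zpowers y)
    (Subgroup.zpowers_le.2 hx) (Subgroup.zpowers_le.2 hy)
    (by rw [Nat.card_zpowers, hx4]) (by rw [Nat.card_zpowers, hy4])
  have hxy : y ∈ Subgroup.zpowers (n * x * n⁻¹) := by
    rw [MonoidHom.map_zpowers] at hn
    exact hn.le (Subgroup.mem_zpowers y)
  set w := n * x * n⁻¹ with hw
  have hw4 : orderOf w = 4 := (MulEquiv.orderOf_eq (MulAut.conj n) x).trans hx4
  obtain ⟨i, hi⟩ := Subgroup.mem_zpowers_iff.1 hxy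
  have hred : y = w ^ (i % 4).toNat := by
    rw [← hi, ← zpow_natCast, Int.toNat_of_nonneg (Int.emod_nonneg _ (by norm_num)),
      ← zpow_mod_orderOf, hw4]
    norm_num
  have hlt : (i % 4).toNat < 4 := by omega
  have hxw : IsConj x w := isConj_iff.2 ⟨n, rfl⟩
  have hsq : ∀ k : ℕ, k = 0 ∨ k = 2 → (w ^ k) * (w ^ k) = 1 := by
    rintro k (rfl | rfl)
    · simp
    · rw [← pow_add, show 2 + 2 = orderOf w by omega, pow_orderOf_eq_one]
  have hyy : y * y ≠ 1 := fun h => by
    have := orderOf_dvd_of_pow_eq_one (x := y) (n := 2) (by rw [sq]; exact h)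
    rw [hy4] at this
    omega
  interval_cases hk : (i % 4).toNat
  · exact absurd (hred ▸ hsq 0 (Or.inl rfl)) hyy
  · rw [hred, pow_one]; exact hxw
  · exact absurd (hred ▸ hsq 2 (Or.inr rfl)) hyy
  · have hxx : (e ⟨x, hx⟩) * (e ⟨x, hx⟩) ≠ 1 := fun h => by
      rw [← map_mul, MulEquiv.map_eq_one_iff] at h
      have := orderOf_dvd_of_pow_eq_one (n := 2) (x := x) (by
        rw [sq]; exact congrArg Subtype.val h)
      rw [hx4] at this
      omega
    obtain ⟨r, hr⟩ := q8_exists_inverter _ hxx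
    have hr' : ((e.symm r : (S : Subgroup G)) : G) * x * ((e.symm r : (S : Subgroup G)) : G)⁻¹ =
        x⁻¹ := by
      have h' : e.symm r * ⟨x, hx⟩ * (e.symm r)⁻¹ = (⟨x, hx⟩ : (S : Subgroup G))⁻¹ :=
        e.injective (by simpa using hr)
      simpa using congrArg Subtype.val h'
    have hwi : w ^ 3 = n * x⁻¹ * n⁻¹ := by
      have : w ^ 3 = w⁻¹ := eq_inv_of_mul_eq_one_left (by
        rw [← pow_succ, show 3 + 1 = orderOf w by omega, pow_orderOf_eq_one])
      rw [this, hw]; group
    rw [hred, hwi]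
    exact (isConj_iff.2 ⟨_, hr'⟩).trans (isConj_iff.2 ⟨n, rfl⟩)

include e in
/-- The centraliser of an element of order 4 has a normal 2-complement of index 4. -/
theorem centralizer_complement {x : G} (hx : orderOf x = 4) :
    ∃ K : Subgroup (Subgroup.centralizer ({x} : Set G)), K.Normal ∧ ¬ 2 ∣ Nat.card K ∧
      K.index = 2 ^ 2 := by
  classical
  obtain ⟨Q⟩ : Nonempty (Sylow 2 (Subgroup.centralizer ({x} : Set G))) := inferInstance
  set H := Subgroup.centralizer ({x} : Set G) with hH
  set xH : H := ⟨x, Subgroup.mem_centralizer_singleton_iff.2 rfl⟩ with hxH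
  have hcen : ∀ w : H, Commute xH w := fun w =>
    Subtype.ext (Subgroup.mem_centralizer_singleton_iff.1 w.2).symm
  have hxQ : xH ∈ (Q : Subgroup H) := by
    have hp : IsPGroup 2 (Subgroup.zpowers xH) :=
      IsPGroup.of_card (n := 2) (by
        rw [Nat.card_zpowers, ← Subgroup.orderOf_coe]
        exact hx.trans (by norm_num))
    rw [← Q.3 (IsPGroup.to_sup_of_normal_left' Q.2 hp (Subgroup.zpowers_le.2 (by
      rw [Subgroup.mem_normalizer_iff]
      intro a
      rw [(hcen a).eq, mul_inv_cancel_right]))) le_sup_left]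
    exact Subgroup.mem_sup_right (Subgroup.mem_zpowers _)
  obtain ⟨T, hT⟩ := (Q.2.map H.subtype).exists_le_sylow
  obtain ⟨c, hc⟩ := MulAction.exists_smul_eq G T S
  have hin : ∀ q : H, q ∈ (Q : Subgroup H) → c * (q : G) * c⁻¹ ∈ (S : Subgroup G) := by
    intro q hq
    rw [← hc, Sylow.coe_subgroup_smul]
    simpa using Subgroup.smul_mem_pointwise_smul (a := MulAut.conj c) (q : G) (T : Subgroup G)
      (hT ⟨q, hq, rfl⟩)
  have hQle : (Q : Subgroup H) ≤ Subgroup.zpowers xH := by
    intro q hq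
    set X := e ⟨c * x * c⁻¹, hin xH hxQ⟩ with hX
    set R := e ⟨c * (q : G) * c⁻¹, hin q hq⟩ with hR
    have hXX : X * X ≠ 1 := fun h => by
      rw [hX, ← map_mul, MulEquiv.map_eq_one_iff] at h
      have h' : c * (x * x) * c⁻¹ = 1 := by
        have := congrArg Subtype.val h
        simp only [Subgroup.coe_mul, Subgroup.coe_one] at this
        rw [← this]; group
      have h2 : x * x = 1 := by simpa using h'
      have := orderOf_dvd_of_pow_eq_one (n := 2) (x := x) (by rw [sq]; exact h2)
      rw [hx] at this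
      omega
    have hRX : R * X = X * R := by
      rw [hX, hR, ← map_mul, ← map_mul]
      congr 1
      apply Subtype.ext
      simp only [Subgroup.coe_mul]
      have h1 : (q : G) * x = x * q := (congrArg Subtype.val (hcen q).eq).symm
      calc c * (q : G) * c⁻¹ * (c * x * c⁻¹) = c * ((q : G) * x) * c⁻¹ := by group
        _ = _ := by rw [h1]; group
    have hback : ∀ k : ℕ, R = X ^ k → q = xH ^ k := by
      intro k hk
      rw [hX, hR, ← map_pow, e.injective.eq_iff] at hk
      have h' := congrArg Subtype.val hk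
      simp only [SubmonoidClass.coe_pow] at h'
      rw [conj_pow] at h'
      exact Subtype.ext (by simpa using h')
    rcases q8_centralizer X R hXX hRX with h | h | h | h
    · rw [hback 0 (by rw [pow_zero]; exact h)]; exact Subgroup.pow_mem _ (Subgroup.mem_zpowers _) _
    · rw [hback 1 (by rw [pow_one]; exact h)]; exact Subgroup.pow_mem _ (Subgroup.mem_zpowers _) _
    · rw [hback 2 (by rw [sq]; exact h)]; exact Subgroup.pow_mem _ (Subgroup.mem_zpowers _) _
    · rw [hback 3 (by rw [pow_succ, sq]; exact h)]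
      exact Subgroup.pow_mem _ (Subgroup.mem_zpowers _) _
  have hQN : Subgroup.normalizer ((Q : Subgroup H) : Set H) ≤
      Subgroup.centralizer ((Q : Subgroup H) : Set H) := by
    intro n _ a ha
    obtain ⟨i, rfl⟩ := Subgroup.mem_zpowers_iff.1 (hQle ha)
    exact ((hcen n).zpow_left i).eq
  have hc' := MonoidHom.ker_transferSylow_isComplement' Q hQN
  refine ⟨(MonoidHom.transferSylow Q hQN).ker, inferInstance,
    MonoidHom.not_dvd_card_ker_transferSylow Q hQN, ?_⟩
  rw [hc'.symm.index_eq_card,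
    le_antisymm hQle (Subgroup.zpowers_le.2 hxQ), Nat.card_zpowers, ← Subgroup.orderOf_coe]
  exact hx.trans (by norm_num)

set_option maxHeartbeats 1600000 in
include e in
/-- The principal block consists of seven characters. -/
theorem card_principalBlock (M : Ideal Cfsg.AlgInt) (hM : Cfsg.IsPModular 2 M)
    (hO : ∀ N : Subgroup G, N.Normal → Odd (Nat.card N) → N = ⊥) (hG : (S : Subgroup G) ≠ ⊤) :
    Nat.card (Cfsg.principalBlock M G) = 7 := by
  classical
  haveI := hM.2.1
  haveI : Fact (Nat.Prime 2) := ⟨Nat.prime_two⟩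
  haveI := Fintype.ofFinite G
  haveI := Fintype.ofFinite (Cfsg.IrrCharacter G)
  have hnc := no_complement S e hO hG
  -- the central involution
  have hZ := Cfsg.Agent.S0201.result S 0 e hO
  obtain ⟨z', hz'⟩ := exists_prime_orderOf_dvd_card' (G := Subgroup.center G) 2
    (by rw [hZ])
  set z : G := (z' : G) with hzdef
  have hz : orderOf z = 2 := by rw [hzdef, Subgroup.orderOf_coe, hz']
  have hzc : z ∈ Subgroup.center G := z'.2
  have hzz : z * z = 1 := by rw [← sq, ← hz, pow_orderOf_eq_one]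
  have hzcomm : ∀ g : G, g * z = z * g := fun g => Subgroup.mem_center_iff.1 hzc g
  -- an element of order 4
  set x : G := ((e.symm (QuaternionGroup.a 1) : (S : Subgroup G)) : G) with hxdef
  have hxS : x ∈ (S : Subgroup G) := (e.symm (QuaternionGroup.a 1)).2
  have hx4 : orderOf x = 4 := by
    rw [hxdef, Subgroup.orderOf_coe, MulEquiv.orderOf_eq]
    exact q8_four (by decide +kernel)
  have hzS : z ∈ (S : Subgroup G) := by
    obtain ⟨c, hc⟩ := exists_conj_mem S (g := z) ⟨1, by rw [hz, pow_one]⟩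
    rwa [hzcomm c, mul_inv_cancel_right] at hc
  have hxx : x * x = z := by
    have huniq : ∀ r : QuaternionGroup 2, r * r = 1 → r ≠ 1 → r = QuaternionGroup.a 2 := by
      decide +kernel
    have hz1 : (e ⟨z, hzS⟩) = QuaternionGroup.a 2 := huniq _
      (by rw [← map_mul, MulEquiv.map_eq_one_iff]; exact Subtype.ext hzz)
      (fun h => by
        rw [MulEquiv.map_eq_one_iff] at h
        have := congrArg Subtype.val h
        simp only [Subgroup.coe_one] at this
        rw [this, orderOf_one] at hz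
        omega)
    have h2 : e (⟨x, hxS⟩ * ⟨x, hxS⟩) = e ⟨z, hzS⟩ := by
      rw [map_mul, hz1, show (⟨x, hxS⟩ : (S : Subgroup G)) = e.symm (QuaternionGroup.a 1) from rfl,
        MulEquiv.apply_symm_apply]
      decide +kernel
    exact congrArg Subtype.val (e.injective h2)
  have hxinv : x⁻¹ = z * x := by
    refine inv_eq_of_mul_eq_one_right ?_
    rw [← mul_assoc, hzcomm x, mul_assoc, hxx, hzz]
  -- the three kinds of elements
  set Reg : Finset G := Finset.univ.filter fun g => ¬ 2 ∣ orderOf g with hReg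
  have hparts : ∀ g : G, (¬ 2 ∣ orderOf g ∧ ¬ 2 ∣ orderOf (z * g) → False) ∧
      (¬ 2 ∣ orderOf g ∨ ¬ 2 ∣ orderOf (z * g) ∨ ∃ u v : G, IsConj x u ∧ u * v = g ∧
        Commute u v ∧ ¬ 2 ∣ orderOf v) := by
    intro g
    constructor
    · rintro ⟨h1, h2⟩
      have hc : Commute (z * g) g := by
        show z * g * g = g * (z * g)
        rw [← mul_assoc, hzcomm g]
      have h3 : orderOf z ∣ Nat.lcm (orderOf (z * g)) (orderOf g⁻¹) := by
        have := (hc.inv_right).orderOf_mul_dvd_lcm
        rwa [mul_inv_cancel_right] at this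
      rw [orderOf_inv, hz] at h3
      exact ((Nat.prime_two.dvd_mul).1 (h3.trans (Nat.lcm_dvd_mul _ _))).elim h2 h1
    · obtain ⟨u, v, huv, hc, hu, hv⟩ := exists_isPPart (G := G) Nat.prime_two g
      rcases orderOf_eq_one_or S e hu with h | h | h
      · left
        rw [← huv, orderOf_eq_one_iff.1 h, one_mul]
        exact hv
      · have huz : u = z := by
          obtain ⟨c, hc'⟩ := exists_conj_mem S hu
          have huniq : ∀ r s : QuaternionGroup 2, r * r = 1 → r ≠ 1 → s * s = 1 → s ≠ 1 →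
              r = s := by decide +kernel
          have hco : orderOf (c * u * c⁻¹) = 2 :=
            (MulEquiv.orderOf_eq (MulAut.conj c) u).trans h
          have key : ∀ w : (S : Subgroup G), orderOf (w : G) = 2 →
              e w * e w = 1 ∧ e w ≠ 1 := by
            intro w hw
            rw [Subgroup.orderOf_coe, ← MulEquiv.orderOf_eq e] at hw
            refine ⟨by rw [← sq]; exact orderOf_dvd_iff_pow_eq_one.1 hw.dvd, fun h => ?_⟩
            rw [h, orderOf_one] at hw
            omega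
          have h' := e.injective (huniq _ _ (key ⟨_, hc'⟩ hco).1 (key ⟨_, hc'⟩ hco).2
            (key ⟨z, hzS⟩ hz).1 (key ⟨z, hzS⟩ hz).2)
          have h'' : c * u * c⁻¹ = z := congrArg Subtype.val h'
          rw [mul_inv_eq_iff_eq_mul] at h''
          exact mul_left_cancel (h''.trans (hzcomm c).symm)
        right; left
        rw [← huv, huz, ← mul_assoc, hzz, one_mul]
        exact hv
      · right; right
        obtain ⟨c, hc'⟩ := exists_conj_mem S hu
        have hco : orderOf (c * u * c⁻¹) = 4 :=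
          (MulEquiv.orderOf_eq (MulAut.conj c) u).trans h
        exact ⟨u, v, (isConj_four S e hnc hxS hx4 hc' hco).trans
          (isConj_iff.2 ⟨c⁻¹, by group⟩), huv, hc, hv⟩
  -- characters of the block at `x`
  obtain ⟨K, hKn, hK2, hKi⟩ := centralizer_complement S e hx4
  have hKle : K ≤ Cfsg.pPrimeCore 2 (Subgroup.centralizer ({x} : Set G)) :=
    Lib.Cores.le_pPrimeCore_of_not_dvd hK2
  set B := Cfsg.principalBlock M G with hB
  have hsec : ∀ χ ∈ B, ∀ g : G, 2 ∣ orderOf g → 2 ∣ orderOf (z * g) →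
      (χ : G → ℂ) g = (χ : G → ℂ) x := by
    intro χ hχ g h1 h2
    obtain ⟨u, v, hxu, huv, hcom, hv⟩ := ((hparts g).2.resolve_left (fun h => h h1)).resolve_left
      (fun h => h h2)
    obtain ⟨c, hc⟩ := isConj_iff.1 hxu
    set v' := c⁻¹ * v * c with hv'
    have hgc : g = c * (x * v') * c⁻¹ := by rw [← huv, ← hc, hv']; group
    have hv'C : v' ∈ Subgroup.centralizer ({x} : Set G) := by
      rw [Subgroup.mem_centralizer_singleton_iff, hv']
      have h' : u * v = v * u := hcom
      rw [← hc] at h'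
      calc c⁻¹ * v * c * x = c⁻¹ * (v * (c * x * c⁻¹)) * c := by group
        _ = _ := by rw [← h']; group
    have hord : orderOf v' = orderOf v := by
      rw [hv']
      simpa using MulEquiv.orderOf_eq (MulAut.conj c⁻¹) v
    have hmem : (⟨v', hv'C⟩ : Subgroup.centralizer ({x} : Set G)) ∈ K := by
      rw [← QuotientGroup.eq_one_iff, ← orderOf_eq_one_iff]
      refine Nat.eq_one_of_dvd_coprimes (Nat.Coprime.pow_left 2
        ((Nat.prime_two.coprime_iff_not_dvd).2 hv)) (hKi ▸ ?_) ?_
      · rw [Subgroup.index_eq_card]; exact orderOf_dvd_natCard _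
      · rw [← hord, ← Subgroup.orderOf_mk v' hv'C]
        exact orderOf_map_dvd (QuotientGroup.mk' K) _
    rw [hgc, char_conj_apply]
    refine Cfsg.Agent.S0942.result 2 M hM x ⟨2, hx4.trans (by norm_num)⟩ v' ?_ χ hχ
    exact Subgroup.mem_map.2 ⟨_, hKle hmem, rfl⟩
  -- sign of `z`
  choose ω hω hωg using fun χ : Cfsg.IrrCharacter G =>
    ZStar.GenChar.exists_central_scalar χ hzc (n := 2) (by rw [sq]; exact hzz)
  have hωz : ∀ (χ : Cfsg.IrrCharacter G) (g : G), (χ : G → ℂ) (z * g) = ω χ * (χ : G → ℂ) g := by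
    intro χ g
    simpa using hωg χ 1 g
  have hωpm : ∀ χ, ω χ = 1 ∨ ω χ = -1 := fun χ =>
    sq_eq_one_iff.1 (hω χ)
  have hint : ∀ χ : Cfsg.IrrCharacter G, ∃ a : ℤ, (χ : G → ℂ) x = (a : ℂ) ∧
      (ω χ = -1 → a = 0) := by
    intro χ
    have hinv : (χ : G → ℂ) x⁻¹ = (χ : G → ℂ) x := by
      obtain ⟨c, hc⟩ := exists_conj_mem S (g := x⁻¹) ⟨2, by rw [orderOf_inv, hx4]; norm_num⟩
      have hco : orderOf (c * x⁻¹ * c⁻¹) = 4 :=
        (MulEquiv.orderOf_eq (MulAut.conj c) x⁻¹).trans (by rw [orderOf_inv, hx4])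
      rw [← char_eq_of_isConj χ (isConj_four S e hnc hxS hx4 hc hco).symm]
      exact char_eq_of_isConj χ (isConj_iff.2 ⟨c, rfl⟩)
    by_cases hw : ω χ = 1
    · -- trivial on `z`: restrict to the four-cycle
      obtain ⟨d, ρ, hirr, hρ⟩ := χ.2
      have hsq : ρ (x * x) = 1 := by
        rw [hxx]
        have := hirr
        obtain ⟨s, hs⟩ := Clifford.Rep.schur ρ (ρ z) fun g => by rw [← map_mul, ← map_mul, hzcomm g]
        have hval := hωz χ 1
        rw [mul_one, hw, one_mul, ← hρ] at hval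
        have hdne : (Module.finrank ℂ (Fin d → ℂ) : ℂ) ≠ 0 := by
          have := char_one_ne_zero χ
          rw [← hρ, Representation.char_one] at this
          exact this
        have h1 : LinearMap.trace ℂ _ (ρ z) = (Module.finrank ℂ (Fin d → ℂ) : ℂ) := by
          rw [← Representation.char_one ρ]
          exact hval
        rw [hs, map_smul, LinearMap.trace_one, smul_eq_mul, mul_left_eq_self₀] at h1
        rw [hs, h1.resolve_right hdne, one_smul]
      set P := ρ x with hP
      have hPP : P * P = 1 := by rw [hP, ← map_mul, hsq]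
      have hidem : IsIdempotentElem ((2 : ℂ)⁻¹ • (1 + P)) := by
        show _ * _ = _
        rw [smul_mul_smul_comm, mul_add, add_mul, add_mul, one_mul, one_mul, mul_one, hPP]
        rw [show (1 : Module.End ℂ (Fin d → ℂ)) + P + (P + 1) = (2 : ℂ) • (1 + P) by
          rw [two_smul]; abel, smul_smul]
        norm_num
      obtain ⟨Vp, hV⟩ := (LinearMap.isProj_iff_isIdempotentElem _).2 hidem
      have htr := hV.trace
      rw [map_smul, map_add, LinearMap.trace_one, smul_eq_mul] at htr
      refine ⟨2 * Module.finrank ℂ Vp - Module.finrank ℂ (Fin d → ℂ), ?_, fun h => ?_⟩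
      · rw [← hρ]
        show LinearMap.trace ℂ _ (ρ x) = _
        push_cast
        rw [← hP]
        field_simp at htr
        linear_combination htr
      · rw [hw] at h; norm_num at h
    · refine ⟨0, ?_, fun _ => rfl⟩
      have hw' := (hωpm χ).resolve_left hw
      rw [hxinv, hωz, hw'] at hinv
      push_cast
      linear_combination (-1 / 2 : ℂ) * hinv
  choose a ha ha0 using hint
  set s := (Set.toFinite B).toFinset with hs
  have hmem : ∀ χ, χ ∈ s ↔ χ ∈ B := fun χ => Set.Finite.mem_toFinset _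
  have hsum : ∑ χ ∈ s, a χ ^ 2 = 4 := by
    have h47 := (Cfsg.Agent.S0947.result 2 M hM x ⟨2, hx4.trans (by norm_num)⟩
      (fun h => by rw [h, orderOf_one] at hx4; omega) 1 (by simp)).2 (by
        obtain ⟨k, -, hk⟩ := (Nat.dvd_prime_pow Nat.prime_two).1
          (hKi ▸ Subgroup.index_dvd_of_le hKle)
        exact ⟨k, hk⟩)
    rw [OneMemClass.coe_one, mul_one, ← K.card_mul_index, hKi,
      Nat.factorization_mul Nat.card_pos.ne' (by norm_num), Finsupp.add_apply,
      Nat.factorization_eq_zero_of_not_dvd hK2, Nat.prime_two.factorization_pow,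
      Finsupp.single_eq_same, finsum_mem_eq_finite_toFinset_sum _ (Set.toFinite _)] at h47
    have h' : ((∑ χ ∈ s, a χ ^ 2 : ℤ) : ℝ) = ((4 : ℤ) : ℝ) := by
      push_cast
      refine Eq.trans (Finset.sum_congr rfl fun χ _ => ?_) (h47.trans (by norm_num))
      rw [ha, Complex.norm_intCast, sq_abs]
    exact_mod_cast h'
  -- orthogonality on the elements of odd order
  set R : Cfsg.IrrCharacter G → Cfsg.IrrCharacter G → ℂ := fun χ θ =>
    ∑ g ∈ Reg, (χ : G → ℂ) g * conj ((θ : G → ℂ) g) with hR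
  set T4 : Finset G := Finset.univ.filter fun g => 2 ∣ orderOf g ∧ 2 ∣ orderOf (z * g) with hT4
  have hsplit : ∀ f : G → ℂ, ∑ g, f g = ∑ g ∈ Reg, f g + ∑ g ∈ Reg, f (z * g) + ∑ g ∈ T4, f g := by
    intro f
    have h1 : ∑ g ∈ Reg, f (z * g) =
        ∑ g ∈ Finset.univ.filter (fun g => 2 ∣ orderOf g ∧ ¬ 2 ∣ orderOf (z * g)), f g := by
      refine Finset.sum_nbij' (fun g => z * g) (fun g => z * g) ?_ ?_ ?_ ?_ (fun g _ => rfl)
      · intro g hg
        simp only [hReg, Finset.mem_coe, Finset.mem_filter, Finset.mem_univ, true_and] at hg ⊢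
        refine ⟨by_contra fun h => (hparts g).1 ⟨hg, h⟩, ?_⟩
        rwa [← mul_assoc, hzz, one_mul]
      · intro g hg
        simp only [hReg, Finset.mem_coe, Finset.mem_filter, Finset.mem_univ, true_and] at hg ⊢
        exact hg.2
      · intro g _; rw [← mul_assoc, hzz, one_mul]
      · intro g _; rw [← mul_assoc, hzz, one_mul]
    rw [h1, hT4, hReg, add_assoc, ← Finset.sum_union,
      ← Finset.sum_filter_add_sum_filter_not Finset.univ (fun g => ¬ 2 ∣ orderOf g)]
    · congr 1
      refine Finset.sum_congr (Finset.ext fun g => ?_) fun _ _ => rfl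
      simp only [Finset.mem_filter, Finset.mem_univ, true_and, Finset.mem_union]
      tauto
    · rw [Finset.disjoint_filter]
      tauto
  have horth : ∀ χ ∈ B, ∀ θ ∈ B, (1 + ω χ * ω θ) * R χ θ + (T4.card : ℂ) * (a χ * a θ) =
      if χ = θ then (Nat.card G : ℂ) else 0 := by
    intro χ hχ θ hθ
    have h := classInner_irr χ θ
    rw [Cfsg.classInner, hsplit] at h
    have h2 : ∑ g ∈ Reg, (χ : G → ℂ) (z * g) * conj ((θ : G → ℂ) (z * g)) =
        ω χ * ω θ * R χ θ := by
      rw [hR, Finset.mul_sum]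
      refine Finset.sum_congr rfl fun g _ => ?_
      rw [hωz, hωz, map_mul, show conj (ω θ) = ω θ by
        rcases hωpm θ with h | h <;> rw [h] <;> simp]
      ring
    have h4 : ∑ g ∈ T4, (χ : G → ℂ) g * conj ((θ : G → ℂ) g) = (T4.card : ℂ) * (a χ * a θ) := by
      rw [← nsmul_eq_mul, ← Finset.sum_const]
      refine Finset.sum_congr rfl fun g hg => ?_
      rw [hT4, Finset.mem_filter] at hg
      rw [hsec χ hχ g hg.2.1 hg.2.2, hsec θ hθ g hg.2.1 hg.2.2, ha, ha, map_intCast]
    rw [h2, h4, inv_mul_eq_iff_eq_mul₀ natCard_ne_zero] at h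
    split_ifs at h ⊢ with he
    · linear_combination h
    · linear_combination h
  have h1B : oneChar G ∈ B := oneChar_mem_principalBlock
  have hω1 : ω (oneChar G) = 1 := by
    have := hωz (oneChar G) 1
    simpa [oneChar_apply] using this.symm
  have ha1 : a (oneChar G) = 1 := by
    have h := ha (oneChar G)
    rw [oneChar_apply] at h
    exact_mod_cast h.symm
  -- the number of elements with 2-part of order 4
  have hweak : ∀ g ∈ Reg, ∑ χ ∈ s, (χ : G → ℂ) g * (a χ : ℂ) = 0 := by
    intro g hg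
    rw [hReg, Finset.mem_filter] at hg
    have h := weak_orthogonality hM (isPBlock_principalBlock (M := M) (G := G)) hg.2
      (show 2 ∣ orderOf x by rw [hx4]; norm_num)
    rw [finsum_mem_eq_finite_toFinset_sum _ (Set.toFinite _)] at h
    refine Eq.trans (Finset.sum_congr rfl fun χ _ => ?_) h
    rw [ha, map_intCast]
  have hT4c : (Nat.card G : ℂ) = 4 * (T4.card : ℂ) := by
    have hz0 : ∑ θ ∈ s, (a θ : ℂ) * R θ (oneChar G) = 0 := by
      simp only [hR, Finset.mul_sum]
      rw [Finset.sum_comm]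
      refine Finset.sum_eq_zero fun g hg => ?_
      calc _ = (∑ θ ∈ s, (θ : G → ℂ) g * (a θ : ℂ)) * conj ((oneChar G : G → ℂ) g) := by
            rw [Finset.sum_mul]; exact Finset.sum_congr rfl fun θ _ => by ring
        _ = 0 := by rw [hweak g hg, zero_mul]
    have h1 : ∑ θ ∈ s, (a θ : ℂ) * ((1 + ω θ * ω (oneChar G)) * R θ (oneChar G) +
        (T4.card : ℂ) * (a θ * a (oneChar G))) = (Nat.card G : ℂ) := by
      rw [Finset.sum_congr rfl fun θ hθ => by rw [horth θ ((hmem θ).1 hθ) _ h1B],
        Finset.sum_eq_single (oneChar G) (fun θ _ hne => by rw [if_neg hne, mul_zero])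
          (fun h => absurd ((hmem _).2 h1B) h), if_pos rfl, ha1, Int.cast_one, one_mul]
    rw [← h1]
    have h3 : ∀ θ ∈ s, (a θ : ℂ) * ((1 + ω θ * ω (oneChar G)) * R θ (oneChar G) +
        (T4.card : ℂ) * (a θ * a (oneChar G))) =
        2 * ((a θ : ℂ) * R θ (oneChar G)) + (T4.card : ℂ) * ((a θ ^ 2 : ℤ) : ℂ) := by
      intro θ _
      rw [hω1, ha1]
      rcases hωpm θ with h | h
      · rw [h]; push_cast; ring
      · rw [ha0 θ h]; push_cast; ring
    rw [Finset.sum_congr rfl h3, Finset.sum_add_distrib, ← Finset.mul_sum, ← Finset.mul_sum, hz0,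
      ← Int.cast_sum, hsum]
    push_cast
    ring
  -- the two halves of the block
  set sp := s.filter fun χ => ω χ = 1 with hsp
  set sm := s.filter fun χ => ω χ = -1 with hsm
  have hne : ∀ χ ∈ sp, a χ ≠ 0 := by
    intro χ hχ h0
    rw [hsp, Finset.mem_filter, hmem] at hχ
    have hne1 : χ ≠ oneChar G := fun h => by rw [h, ha1] at h0; norm_num at h0
    have hR0 : R χ (oneChar G) = 0 := by
      have h := horth χ hχ.1 _ h1B
      rw [if_neg hne1, hχ.2, hω1, h0] at h
      push_cast at h
      linear_combination (1 / 2 : ℂ) * h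
    have hSreg : ∀ u v : G, IsConj u v → u ∈ {g : G | ¬ 2 ∣ orderOf g} →
        v ∈ {g : G | ¬ 2 ∣ orderOf g} := by
      intro u v huv hu
      obtain ⟨c, rfl⟩ := isConj_iff.1 huv
      show ¬ 2 ∣ orderOf (c * u * c⁻¹)
      rw [show c * u * c⁻¹ = MulAut.conj c u from rfl, MulEquiv.orderOf_eq]
      exact hu
    haveI := Fintype.ofFinite (ConjClasses G)
    have key : Cfsg.MemLocalIdeal M
        ((Nat.card {g : G | ¬ 2 ∣ orderOf g} : ℂ) -
          ∑ g ∈ Reg, (χ : G → ℂ) g / (χ : G → ℂ) 1) := by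
      have hfs : ∀ ξ : Cfsg.IrrCharacter G,
          ∑ g ∈ Reg, (ξ : G → ℂ) g / (ξ : G → ℂ) 1 =
          ∑ c : ConjClasses G with c.out ∈ {g : G | ¬ 2 ∣ orderOf g},
            Cfsg.centralChar (ξ : G → ℂ) c.out := by
        intro ξ
        have hh := Cfsg.Agent.Lib.BrauerMap.Induced.finsum_eq_sum_centralChar _ hSreg ξ
        rw [finsum_mem_eq_finite_toFinset_sum _ (Set.toFinite _)] at hh
        have hl : (Set.toFinite {g : G | ¬ 2 ∣ orderOf g}).toFinset = Reg := by
          ext g; simp [hReg]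
        rw [hl] at hh
        convert hh using 3
      have h1 := hfs (oneChar G)
      simp only [oneChar_apply, div_one, Finset.sum_const, nsmul_eq_mul, mul_one] at h1
      rw [Nat.card_eq_card_toFinset, show ({g : G | ¬ 2 ∣ orderOf g} : Set G).toFinset = Reg by
        ext g; simp [hReg], h1, hfs χ, ← Finset.sum_sub_distrib]
      refine memLocalIdeal_sum _ fun c _ => ?_
      exact (Chars82.PrincipalBlock.mem_principalBlock_iff.1 hχ.1 c.out |> fun h => by
        simpa [Cfsg.centralChar, oneChar_apply] using h)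
    have hsum0 : ∑ g ∈ Reg, (χ : G → ℂ) g / (χ : G → ℂ) 1 = 0 := by
      rw [← Finset.sum_div]
      have : ∑ g ∈ Reg, (χ : G → ℂ) g = R χ (oneChar G) := by
        simp [hR, oneChar_apply]
      rw [this, hR0, zero_div]
    rw [hsum0, sub_zero, memLocalIdeal_natCast_iff hM] at key
    have hodd : ¬ 2 ∣ Reg.card := by
      intro hd
      have h1R : (1 : G) ∈ Reg := by simp [hReg]
      have h0 : ∑ _g ∈ Reg.erase 1, (1 : ZMod 2) = 0 := by
        refine Finset.sum_involution (fun g _ => g⁻¹) (fun g _ => CharTwo.add_self_eq_zero _)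
          (fun g hg _ h => ?_) (fun g hg => ?_) (fun g _ => inv_inv g)
        · rw [hReg, Finset.mem_erase, Finset.mem_filter] at hg
          rcases (Nat.dvd_prime Nat.prime_two).1 (orderOf_dvd_of_pow_eq_one (x := g) (n := 2)
            (by rw [sq]; nth_rewrite 1 [← h]; rw [inv_mul_cancel])) with ho | ho
          · exact hg.1 (orderOf_eq_one_iff.1 ho)
          · exact hg.2.2 (by rw [ho])
        · rw [hReg, Finset.mem_erase, Finset.mem_filter] at hg ⊢
          exact ⟨by simpa using hg.1, Finset.mem_univ _, by rw [orderOf_inv]; exact hg.2.2⟩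
      rw [Finset.sum_const, nsmul_eq_mul, mul_one, ZMod.natCast_eq_zero_iff_even,
        Finset.card_erase_of_mem h1R] at h0
      have := Finset.card_pos.2 ⟨_, h1R⟩
      rw [Nat.even_sub (by omega)] at h0
      exact absurd (h0.1 (even_iff_two_dvd.2 hd)) (by decide)
    refine hodd ?_
    rwa [Nat.card_eq_card_toFinset, show ({g : G | ¬ 2 ∣ orderOf g} : Set G).toFinset = Reg by
        ext g; simp [hReg]] at key
  have hspm : ∀ χ ∈ s, χ ∈ sp ∨ χ ∈ sm := fun χ hχ => by
    simp only [hsp, hsm, Finset.mem_filter]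
    exact (hωpm χ).imp (⟨hχ, ·⟩) (⟨hχ, ·⟩)
  have hsum' : ∑ χ ∈ sp, a χ ^ 2 = 4 := by
    rw [← hsum]
    refine Finset.sum_subset (Finset.filter_subset _ _) fun χ hχ hn => ?_
    have := (hspm χ hχ).resolve_left hn
    rw [hsm, Finset.mem_filter] at this
    rw [ha0 χ this.2]; norm_num
  have h1p : oneChar G ∈ sp := by
    rw [hsp, Finset.mem_filter]
    exact ⟨(hmem _).2 h1B, hω1⟩
  have hsp4 : sp.card = 4 := by
    have hrest : ∑ χ ∈ sp.erase (oneChar G), a χ ^ 2 = 3 := by
      have h := Finset.add_sum_erase sp (fun χ => a χ ^ 2) h1p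
      rw [hsum', ha1] at h
      omega
    have hones : ∀ χ ∈ sp.erase (oneChar G), a χ ^ 2 = 1 := by
      intro χ hχ
      have h1 : a χ ^ 2 ≤ 3 := hrest ▸ Finset.single_le_sum (fun θ _ => sq_nonneg (a θ)) hχ
      have h2 : -2 < a χ ∧ a χ < 2 := ⟨by nlinarith, by nlinarith⟩
      have h3 := hne χ (Finset.mem_of_mem_erase hχ)
      rcases (show a χ = 1 ∨ a χ = -1 by omega) with h | h <;> rw [h] <;> norm_num
    rw [Finset.sum_congr rfl hones, Finset.sum_const, nsmul_one] at hrest
    have hc : (sp.erase (oneChar G)).card = 3 := by exact_mod_cast hrest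
    rw [← Finset.card_erase_add_one h1p, hc]
  -- comparison of the halves on the elements of odd order
  have hproj : ∀ χ ∈ B, R χ χ = 2 / (Nat.card G : ℂ) *
      ∑ θ ∈ s.filter (fun θ => ω θ = -ω χ), R χ θ * R θ χ := by
    intro χ hχ
    set f : G → ℂ := fun g => if 2 ∣ orderOf g then 0 else (χ : G → ℂ) g with hf
    have hfc : Cfsg.IsClassFunction G f := by
      intro g c
      simp only [hf]
      rw [show orderOf (c * g * c⁻¹) = orderOf g from MulEquiv.orderOf_eq (MulAut.conj c) g,
        char_conj_apply]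
    have hcoef : ∀ θ : Cfsg.IrrCharacter G, Cfsg.classInner f (θ : G → ℂ) =
        if θ ∈ s then (Nat.card G : ℂ)⁻¹ * R χ θ else 0 := by
      intro θ
      have h1 : Cfsg.classInner f (θ : G → ℂ) = (Nat.card G : ℂ)⁻¹ * R χ θ := by
        simp only [Cfsg.classInner, hR, hReg, Finset.sum_filter]
        congr 1
        refine Finset.sum_congr rfl fun g _ => ?_
        simp only [hf]
        split_ifs with h <;> simp
      split_ifs with hθ
      · exact h1
      · rw [h1]
        have hns : ¬ Cfsg.SameBlock M (χ : G → ℂ) (θ : G → ℂ) := fun h => hθ ((hmem θ).2 (by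
          rw [hB, principalBlock_eq, mem_blockOf_iff] at hχ ⊢
          exact hχ.trans (sameBlock_iff_omegaBar.mp h)))
        have h0 := Cfsg.Agent.S0952.result 2 M hM χ θ hns
        rw [finsum_mem_eq_finite_toFinset_sum _ (Set.toFinite _)] at h0
        rw [show R χ θ = 0 from Eq.trans (Finset.sum_congr (Finset.ext fun g => by simp [hReg])
          fun _ _ => rfl) h0, mul_zero]
    have hexp := Characters.Complete.classFunction_eq_sum hfc
    have hval : ∀ g : G, f g = ∑ θ ∈ s, (Nat.card G : ℂ)⁻¹ * R χ θ * (θ : G → ℂ) g := by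
      intro g
      conv_lhs => rw [hexp]
      simp only [Finset.sum_apply, Pi.smul_apply, smul_eq_mul, hcoef, ite_mul, zero_mul]
      rw [← Finset.sum_filter]
      exact Finset.sum_congr (by ext; simp) fun _ _ => rfl
    have hreg : ∀ g ∈ Reg, (χ : G → ℂ) g = 2 / (Nat.card G : ℂ) *
        ∑ θ ∈ s.filter (fun θ => ω θ = -ω χ), R χ θ * (θ : G → ℂ) g := by
      intro g hg
      rw [hReg, Finset.mem_filter] at hg
      have hz2 : 2 ∣ orderOf (z * g) := by_contra fun h => (hparts g).1 ⟨hg.2, h⟩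
      have e1 : (χ : G → ℂ) g = f g - ω χ * f (z * g) := by simp [hf, hg.2, hz2]
      rw [e1, hval, hval, Finset.mul_sum, ← Finset.sum_sub_distrib, Finset.mul_sum,
        Finset.sum_filter]
      refine Finset.sum_congr rfl fun θ _ => ?_
      rw [hωz]
      rcases hωpm χ with h1 | h1 <;> rcases hωpm θ with h2 | h2 <;> rw [h1, h2] <;> norm_num <;>
        ring
    calc R χ χ = ∑ g ∈ Reg, (2 / (Nat.card G : ℂ) *
          ∑ θ ∈ s.filter (fun θ => ω θ = -ω χ), R χ θ * (θ : G → ℂ) g) * conj ((χ : G → ℂ) g) :=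
        Finset.sum_congr rfl fun g hg => congrArg (· * conj ((χ : G → ℂ) g)) (hreg g hg)
      _ = _ := by
        simp only [Finset.sum_mul, Finset.mul_sum]
        rw [Finset.sum_comm]
        refine Finset.sum_congr rfl fun θ _ => ?_
        rw [show R θ χ = ∑ g ∈ Reg, (θ : G → ℂ) g * conj ((χ : G → ℂ) g) from rfl, Finset.mul_sum,
          Finset.mul_sum]
        exact Finset.sum_congr rfl fun g _ => by ring
  have hcross : ∑ χ ∈ sp, R χ χ = ∑ χ ∈ sm, R χ χ := by
    have h1 : ∀ χ ∈ sp, R χ χ = 2 / (Nat.card G : ℂ) * ∑ θ ∈ sm, R χ θ * R θ χ := by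
      intro χ hχ
      rw [hsp, Finset.mem_filter, hmem] at hχ
      rw [hproj χ hχ.1, hsm, hχ.2]
    have h2 : ∀ θ ∈ sm, R θ θ = 2 / (Nat.card G : ℂ) * ∑ χ ∈ sp, R θ χ * R χ θ := by
      intro θ hθ
      rw [hsm, Finset.mem_filter, hmem] at hθ
      rw [hproj θ hθ.1, hsp, hθ.2, neg_neg]
    rw [Finset.sum_congr rfl h1, Finset.sum_congr rfl h2, ← Finset.mul_sum, ← Finset.mul_sum,
      Finset.sum_comm]
    congr 1
    exact Finset.sum_congr rfl fun θ _ => Finset.sum_congr rfl fun χ _ => mul_comm _ _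
  have hval : ∀ χ ∈ s, 2 * R χ χ = (Nat.card G : ℂ) - (T4.card : ℂ) * ((a χ ^ 2 : ℤ) : ℂ) := by
    intro χ hχ
    have h := horth χ ((hmem χ).1 hχ) χ ((hmem χ).1 hχ)
    rw [if_pos rfl] at h
    rcases hωpm χ with hw | hw <;> rw [hw] at h <;> push_cast <;> linear_combination h
  have hsm0 : ∀ χ ∈ sm, a χ = 0 := fun χ hχ => by
    rw [hsm, Finset.mem_filter] at hχ
    exact ha0 χ hχ.2
  have hfin := congrArg (fun w : ℂ => 2 * w) hcross
  simp only [Finset.mul_sum] at hfin
  rw [Finset.sum_congr rfl fun χ hχ => hval χ (Finset.mem_of_mem_filter χ hχ),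
    Finset.sum_congr rfl fun χ hχ => hval χ (Finset.mem_of_mem_filter χ hχ),
    Finset.sum_sub_distrib, Finset.sum_sub_distrib, ← Finset.mul_sum, ← Finset.mul_sum,
    ← Int.cast_sum, ← Int.cast_sum, hsum',
    Finset.sum_eq_zero (fun χ hχ => by rw [hsm0 χ hχ]; norm_num : ∀ χ ∈ sm, a χ ^ 2 = 0),
    Finset.sum_const, Finset.sum_const, hsp4, hT4c] at hfin
  have hT0 : (T4.card : ℂ) ≠ 0 := fun h => natCard_ne_zero (G := G) (by rw [hT4c, h, mul_zero])
  have hsm3 : sm.card = 3 := by
    have : ((sm.card : ℕ) : ℂ) = 3 := by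
      refine mul_left_cancel₀ hT0 ?_
      simp only [nsmul_eq_mul] at hfin
      push_cast at hfin
      linear_combination (-1 / 4 : ℂ) * hfin
    exact_mod_cast this
  rw [Nat.card_eq_card_finite_toFinset (Set.toFinite B), ← hs]
  have hu : s = sp ∪ sm := by
    ext χ
    refine ⟨fun h => Finset.mem_union.2 (hspm χ h), fun h => ?_⟩
    rcases Finset.mem_union.1 h with h | h <;> exact Finset.mem_of_mem_filter χ h
  rw [hu, Finset.card_union_of_disjoint, hsp4, hsm3]
  rw [hsp, hsm, Finset.disjoint_filter]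
  intro χ _ h1 h2
  rw [h1] at h2
  norm_num at h2

end Cfsg.Agent.Lib.QuatSylow.Eight
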